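import Cfsg.Agent.TitsK.Inst
import Cfsg.Agent.TitsK.Bound
import Cfsg.Agent.TitsK.KAbs
import Cfsg.Agent.TitsK.AutT

/-!
# The Tits group: the square of an element of order 16 is not conjugate to its cube
-/

set_option autoImplicit false
set_option Elab.async false

namespace Cfsg.Agent.H631.TitsD

open Cfsg.Lie Cfsg.Agent.ChevalleyStructure.TwF4.Tables
open Cfsg.Agent.TitsK
open Cfsg.Agent.FourTwo.Base hiding bar bar_lt
open Cfsg.Agent.FourTwo.BN Cfsg.Agent.FourTwo.Comm Cfsg.Agent.FourTwo.Classes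
open Cfsg.Agent.FourTwo.UCode (mulU invU conjU lets colW colF force force_eq mem_lets wel_lets wel_mem)

theorem pow_eight' {G : Type*} [Group G] (f : ℕ → G) (e a b c : ℕ) (h1 : f e * f e = f a) (h2 : f a * f a = f b)
    (h3 : f b * f b = f c) : f c = f e ^ 8 := by
  rw [← h3, ← h2, ← h1, ← pow_two, ← pow_two, ← pow_two, ← pow_mul, ← pow_mul]

theorem pow_six' {G : Type*} [Group G] (f : ℕ → G) (e a b c : ℕ) (h1 : f e * f e = f a) (h2 : f a * f a = f b)
    (h3 : f b * f a = f c) : f c = f e ^ 6 := by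
  rw [← h3, ← h2, ← h1, ← pow_two, ← pow_two, ← pow_succ, ← pow_mul]

/-- the label -/
def lb (e : ℕ) : ℕ := e / 4096 % 2

/-- the check: for `e` of order 16 the label of the square is invariant under the generators, and changed by the cube -/
def p16 (e : ℕ) : Bool :=
  force (mulU e e) fun s =>
  force (mulU s s) fun s2 =>
  cond (Nat.beq (mulU s2 s2) 0) true
    (cond (Nat.beq (lb (mulU s2 s)) (lb s)) false (gens12.all fun c => Nat.beq (lb (conjU c.1 s)) (lb s)))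

theorem chk16 : allS p16 = true := by decide +kernel

theorem p16_spec {e : ℕ} (h : p16 e = true) (h8 : mulU (mulU (mulU e e) (mulU e e)) (mulU (mulU e e) (mulU e e)) ≠ 0) :
    lb (mulU (mulU (mulU e e) (mulU e e)) (mulU e e)) ≠ lb (mulU e e) ∧
      ∀ c ∈ gens12, lb (conjU c.1 (mulU e e)) = lb (mulU e e) := by
  unfold p16 at h
  rw [force_eq, force_eq] at h
  have h1 : Nat.beq (mulU (mulU (mulU e e) (mulU e e)) (mulU (mulU e e) (mulU e e))) 0 = false := by
    rw [Bool.eq_false_iff]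
    exact fun h => h8 (Nat.eq_of_beq_eq_true h)
  rw [h1, cond_false] at h
  by_cases h2 : lb (mulU (mulU (mulU e e) (mulU e e)) (mulU e e)) = lb (mulU e e)
  · exfalso
    rw [h2, Nat.beq_refl, cond_true] at h
    exact absurd h (by decide)
  · refine ⟨h2, ?_⟩
    have h3 : Nat.beq (lb (mulU (mulU (mulU e e) (mulU e e)) (mulU e e))) (lb (mulU e e)) = false := by
      rw [Bool.eq_false_iff]
      exact fun h => h2 (Nat.eq_of_beq_eq_true h)
    rw [h3, cond_false, List.all_eq_true] at h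
    exact fun c hc => Nat.eq_of_beq_eq_true (h c hc)

/-- the label of an element -/
def Lab (w : LL) (b : ℕ) : Prop := ∃ e < 2 ^ 24, ec e = w ∧ lb e = b

theorem Lab.unique {w : LL} {b b' : ℕ} (h : Lab w b) (h' : Lab w b') : b = b' := by
  obtain ⟨e, he, h1, rfl⟩ := h
  obtain ⟨e', he', h1', rfl⟩ := h'
  rw [ec_inj he he' (h1.trans h1'.symm)]

/-- the elements of order 16 -/
structure X16 (x : LL) : Prop where
  u : x ∈ UT
  t : x ∈ TT
  n : x ^ 8 ≠ 1

theorem X16.conj {x : LL} (h : X16 x) {v : LL} (hv : v ∈ UT) : X16 (v * x * v⁻¹) :=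
  ⟨UT.mul_mem (UT.mul_mem hv h.u) (UT.inv_mem hv), TT_conj hv.2 h.t, fun h1 => h.n (by
    rw [conj_pow] at h1
    exact conj_eq_one_iff.1 h1)⟩

theorem X16.code {x : LL} (h : X16 x) : ∃ e, e < 2 ^ 24 ∧ ec e = x ∧
    lb (mulU (mulU (mulU e e) (mulU e e)) (mulU e e)) ≠ lb (mulU e e) ∧
      ∀ c ∈ gens12, lb (conjU c.1 (mulU e e)) = lb (mulU e e) := by
  obtain ⟨e, he, rfl, -, hp⟩ := ST_all chk16 h.u h.t
  refine ⟨e, he, rfl, p16_spec hp fun h0 => h.n ?_⟩
  have h1 : ec (mulU (mulU (mulU e e) (mulU e e)) (mulU (mulU e e) (mulU e e))) = ec e ^ 8 :=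
    pow_eight' ec _ _ _ _ (ec_mulU _ _).symm (ec_mulU _ _).symm (ec_mulU _ _).symm
  exact h1.symm.trans ((congrArg ec h0).trans ec_zero)

/-- the elements preserving the labels -/
def Pres (u : LL) : Prop := u ∈ UT ∧ ∀ x, X16 x → ∀ b, Lab (x ^ 2) b → Lab (u * x ^ 2 * u⁻¹) b

theorem Pres.mul {u v : LL} (hu : Pres u) (hv : Pres v) : Pres (u * v) := by
  refine ⟨UT.mul_mem hu.1 hv.1, fun x hx b hb => ?_⟩
  have h1 := hv.2 x hx b hb
  have e1 : v * x ^ 2 * v⁻¹ = (v * x * v⁻¹) ^ 2 := (conj_pow).symm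
  rw [e1] at h1
  have h2 := hu.2 _ (hx.conj hv.1) b h1
  have e2 : u * (v * x * v⁻¹) ^ 2 * u⁻¹ = u * v * x ^ 2 * (u * v)⁻¹ := by
    rw [← e1]; group
  rwa [e2] at h2

theorem pres_gen : ∀ c ∈ gens12, Pres (ec c.1) := by
  intro c hc
  refine ⟨gens_mem c hc, fun x hx b hb => ?_⟩
  obtain ⟨e, he, rfl, -, h2⟩ := hx.code
  have hs : ec (mulU e e) = ec e ^ 2 := by rw [ec_mulU, pow_two]
  have h3 : Lab (ec e ^ 2) (lb (mulU e e)) := ⟨_, mulU_lt he e, hs, rfl⟩
  rw [hb.unique h3, ← h2 c hc]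
  have hc24 : c.1 < 2 ^ 24 := by
    revert c
    decide
  exact ⟨_, conjU_lt hc24 _, by rw [ec_conjU, hs], rfl⟩

theorem pres_lf {gs : List (ℕ × Bool)} (h : ∀ g ∈ gs, Pres (ec g.1)) {e : ℕ} {b : Bool} (he : Pres (ec e)) :
    ∀ q ∈ lf gs e b, Pres (ec q.1) := by
  induction gs generalizing e b with
  | nil =>
    intro q hq
    rw [lf, List.mem_singleton] at hq
    rw [hq]
    exact he
  | cons g gs ih =>
    intro q hq
    rw [lf, List.mem_append] at hq
    rcases hq with hq | hq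
    · exact ih (fun g' hg' => h g' (List.mem_cons_of_mem _ hg')) he q hq
    · refine ih (fun g' hg' => h g' (List.mem_cons_of_mem _ hg')) ?_ q hq
      rw [ec_mulU]
      exact he.mul (h g List.mem_cons_self)

theorem pres_one : Pres (ec 0) := by
  rw [ec_zero]
  exact ⟨one_mem _, fun x _ b hb => by rwa [one_mul, inv_one, mul_one]⟩

theorem pres_all {u : LL} (hu : u ∈ UT) : Pres u := by
  obtain ⟨q, hq, rfl⟩ := exists_leaf hu
  exact pres_lf pres_gen pres_one q hq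

/-- in `UT` -/
theorem not_conj_UT {x : LL} (hx : X16 x) {u : LL} (hu : u ∈ UT) : u * x ^ 2 * u⁻¹ ≠ x ^ 6 := by
  intro h
  obtain ⟨e, he, rfl, h1, -⟩ := hx.code
  have hs : ec (mulU e e) = ec e ^ 2 := by rw [ec_mulU, pow_two]
  have h3 : Lab (ec e ^ 2) (lb (mulU e e)) := ⟨_, mulU_lt he e, hs, rfl⟩
  have h4 := (pres_all hu).2 _ hx _ h3
  rw [h] at h4
  refine h1 (Lab.unique ⟨_, mulU_lt (mulU_lt (mulU_lt he e) _) _, ?_, rfl⟩ h4)
  have h5 : ec (mulU (mulU (mulU e e) (mulU e e)) (mulU e e)) = ec e ^ 6 := 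
    pow_six' ec _ _ _ _ (ec_mulU _ _).symm (ec_mulU _ _).symm (ec_mulU _ _).symm
  exact h5

/-- **the square of an element of order 16 is not conjugate to its cube in a 2-subgroup** -/
theorem lab {Q : Subgroup LL} (hQ : Q ≤ HT) (h2 : IsPGroup 2 Q) {x : LL} (hx : x ∈ Q) (hxT : x ∈ TT)
    (ho : orderOf x = 16) {g : LL} (hg : g ∈ Q) : g * x ^ 2 * g⁻¹ ≠ x ^ 6 := by
  intro h
  obtain ⟨k, hk, hc⟩ := KAbs.exists_conj_le odd_UT hQ h2
  have h1 : X16 (k⁻¹ * x * k) := by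
    refine ⟨hc x hx, ?_, fun h8 => ?_⟩
    · have := TT_conj (HT.inv_mem hk) hxT
      rwa [inv_inv] at this
    · have e1 : x ^ 8 = 1 := by
        have e2 : (k⁻¹ * x * k) ^ 8 = k⁻¹ * x ^ 8 * k := by
          have := conj_pow (i := 8) (a := k⁻¹) (b := x)
          rwa [inv_inv] at this
        rw [e2] at h8
        calc x ^ 8 = k * (k⁻¹ * x ^ 8 * k) * k⁻¹ := by group
          _ = 1 := by rw [h8]; group
      have e3 := orderOf_dvd_of_pow_eq_one e1
      rw [ho] at e3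
      exact absurd e3 (by decide)
  refine not_conj_UT h1 (hc g hg) ?_
  have e2 : (k⁻¹ * x * k) ^ 2 = k⁻¹ * x ^ 2 * k := by
    have := conj_pow (i := 2) (a := k⁻¹) (b := x)
    rwa [inv_inv] at this
  have e3 : (k⁻¹ * x * k) ^ 6 = k⁻¹ * x ^ 6 * k := by
    have := conj_pow (i := 6) (a := k⁻¹) (b := x)
    rwa [inv_inv] at this
  rw [e2, e3, ← h]
  group

end Cfsg.Agent.H631.TitsD
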