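import Cfsg.Agent.H87.TitsData
import Cfsg.Agent.H488.PBRow.TitsThree

/-!
# The Tits group: elements of orders 16, 12 and an element of order 3 inverted by an involution
-/

set_option autoImplicit false

namespace Cfsg.Agent.H631.TitsD

open Cfsg.Agent.KFacts.OddLift.Basic Cfsg.Agent.KFacts.OddLift.TitMat Cfsg.Agent.KFacts.OddLift.TitGen
open Cfsg.Agent.SporadicRecognition.CosetCert Cfsg.Agent.SporadicRecognition.CosetCertHyp
open Cfsg.Agent.ChevalleyStructure.Tits.Pack Cfsg.Agent.ChevalleyStructure.Tits.Mat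
  Cfsg.Agent.ChevalleyStructure.Tits.Main Cfsg.Agent.ChevalleyStructure.Tits.Order
open Cfsg.Agent.H87.TitsData (pw ev_append ev_pw toMat_ne)

open scoped MatrixGroups

/-- the involution -/
def iw : List ℕ := [0, 6, 0, 6]
/-- a conjugate of the involution -/
def jw : List ℕ := [0, 3] ++ (iw ++ [2, 1])

/-- words of the identity -/
def rl1 : List (List ℕ) := [pw [0, 5, 6] 16, pw [0, 4, 7] 12, pw iw 2, pw (iw ++ jw) 3, pw jw 2]

theorem rl1_ok : rl1.all (fun p => Nat.beq (evP p) oneP) = true := by decide +kernel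
theorem rl1_lt : rl1.all (fun p => p.all fun y => Nat.blt y 8) = true := by decide +kernel

theorem rel1 {u : List ℕ} (h : u ∈ rl1) : ev (lt b 4) u = 1 := by
  have h1 := rl1_ok
  rw [List.all_eq_true] at h1
  have h2 := rl1_lt
  rw [List.all_eq_true] at h2
  apply Subtype.ext
  rw [coe_ev_b]
  apply Subtype.ext
  rw [coe_ev_bH]
  apply Units.ext
  rw [coe_ev (all_lt8 (h2 _ h)), Nat.eq_of_beq_eq_true (h1 _ h)]
  exact toMat_oneP

/-- words different from the identity, with a position -/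
def rl2 : List (List ℕ × Fin 48) := [(pw [0, 5, 6] 8, 8), (pw [0, 4, 7] 4, 7), (pw [0, 4, 7] 6, 3), (iw, 10), (iw ++ jw, 10)]

theorem rl2_ok : rl2.all (fun p => (evP p.1).testBit (4 + p.2)) = true := by decide +kernel
theorem rl2_lt : rl2.all (fun p => p.1.all fun y => Nat.blt y 8) = true := by decide +kernel

theorem rel2 {u : List ℕ} {k : Fin 48} (h : (u, k) ∈ rl2) : ev (lt b 4) u ≠ 1 := by
  have h1 := rl2_ok
  rw [List.all_eq_true] at h1
  have h2 := rl2_lt
  rw [List.all_eq_true] at h2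
  intro h3
  have h4 : ((ev (lt β 4) u : GL I52 (ZMod 2)) : Matrix I52 I52 (ZMod 2)) = 1 := by
    rw [← coe_ev_bH, ← coe_ev_b, h3]
    rfl
  rw [coe_ev (all_lt8 (h2 _ h))] at h4
  exact toMat_ne k (h1 _ h) h4

theorem orderOf_16 {G : Type*} [Group G] {g : G} (h1 : g ^ 16 = 1) (h2 : g ^ 8 ≠ 1) : orderOf g = 16 := by
  have := orderOf_eq_prime_pow (p := 2) (n := 3) (x := g) h2 h1
  simpa using this

theorem orderOf_12 {G : Type*} [Group G] {g : G} (h1 : g ^ 12 = 1) (h2 : g ^ 4 ≠ 1) (h3 : g ^ 6 ≠ 1) :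
    orderOf g = 12 := by
  have h4 : orderOf g ∣ 12 := orderOf_dvd_of_pow_eq_one h1
  have h5 : ¬ orderOf g ∣ 4 := fun h => h2 (orderOf_dvd_iff_pow_eq_one.1 h)
  have h6 : ¬ orderOf g ∣ 6 := fun h => h3 (orderOf_dvd_iff_pow_eq_one.1 h)
  have h7 : orderOf g ≤ 12 := Nat.le_of_dvd (by norm_num) h4
  generalize orderOf g = n at *
  interval_cases n <;> revert h4 h5 h6 <;> decide

/-- the elements -/
structure Els (G : Type*) [Group G] : Prop where
  o16 : ∃ g : G, orderOf g = 16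
  o12 : ∃ g : G, orderOf g = 12
  inv3 : ∃ t j : G, orderOf t = 3 ∧ orderOf j = 2 ∧ j * t * j⁻¹ = t⁻¹

theorem Els.congr {G H : Type*} [Group G] [Group H] (e : G ≃* H) (h : Els G) : Els H where
  o16 := by
    obtain ⟨g, hg⟩ := h.o16
    exact ⟨e g, by rw [e.orderOf_eq, hg]⟩
  o12 := by
    obtain ⟨g, hg⟩ := h.o12
    exact ⟨e g, by rw [e.orderOf_eq, hg]⟩
  inv3 := by
    obtain ⟨t, j, h1, h2, h3⟩ := h.inv3
    exact ⟨e t, e j, by rw [e.orderOf_eq, h1], by rw [e.orderOf_eq, h2], by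
      rw [← map_mul, ← map_inv, ← map_mul, h3, map_inv]⟩

theorem els : Els (commutator H0) where
  o16 := by
    refine ⟨ev (lt b 4) [0, 5, 6], orderOf_16 ?_ ?_⟩
    · rw [← ev_pw]; exact rel1 (by simp [rl1])
    · rw [← ev_pw]; exact rel2 (k := 8) (by simp [rl2])
  o12 := by
    refine ⟨ev (lt b 4) [0, 4, 7], orderOf_12 ?_ ?_ ?_⟩
    · rw [← ev_pw]; exact rel1 (by simp [rl1])
    · rw [← ev_pw]; exact rel2 (k := 7) (by simp [rl2])
    · rw [← ev_pw]; exact rel2 (k := 3) (by simp [rl2])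
  inv3 := by
    have : Fact (Nat.Prime 2) := ⟨Nat.prime_two⟩
    have : Fact (Nat.Prime 3) := ⟨Nat.prime_three⟩
    have hi : ev (lt b 4) iw ^ 2 = 1 := by rw [← ev_pw]; exact rel1 (by simp [rl1])
    have hj : ev (lt b 4) jw ^ 2 = 1 := by rw [← ev_pw]; exact rel1 (by simp [rl1])
    have h3 : (ev (lt b 4) iw * ev (lt b 4) jw) ^ 3 = 1 := by
      rw [← H87.TitsData.ev_append, ← ev_pw]; exact rel1 (by simp [rl1])
    have h3' : ev (lt b 4) iw * ev (lt b 4) jw ≠ 1 := by
      rw [← H87.TitsData.ev_append]; exact rel2 (k := 10) (by simp [rl2])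
    have hi' : ev (lt b 4) iw ≠ 1 := rel2 (k := 10) (by simp [rl2])
    refine ⟨ev (lt b 4) iw * ev (lt b 4) jw, ev (lt b 4) iw, orderOf_eq_prime h3 h3', orderOf_eq_prime hi hi', ?_⟩
    rw [pow_two] at hi hj
    have e1 : (ev (lt b 4) iw)⁻¹ = ev (lt b 4) iw := inv_eq_of_mul_eq_one_left hi
    have e2 : (ev (lt b 4) jw)⁻¹ = ev (lt b 4) jw := inv_eq_of_mul_eq_one_left hj
    rw [mul_inv_rev, e1, e2, ← mul_assoc, hi, one_mul]

theorem els_aux (K : Subgroup (GL I52 (ZMod 2))) (hK : K = H0) : Els (commutator K) := by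
  subst hK
  exact els

theorem els_tits : Els Cfsg.Lie.TitsGroup := els_aux _ T0_eq_H0

theorem els_of_aux {T X : Type*} [Group T] [Group X] (h : Els X) (e : T ≃* X) : Els T := h.congr e.symm

theorem els_of {T : Type*} [Group T] (h : Cfsg.Lie.IsoTits T) : Els T := by
  obtain ⟨e⟩ := h
  exact els_of_aux els_tits e

theorem conj_three_aux {S X : Type*} [Group S] [Group X] (D : Cfsg.Agent.H87.TitsAbs.Dat X)
    (hc : Nat.card X = 2 ^ 11 * 3 ^ 3 * 5 ^ 2 * 13) (e : S ≃* X) {x y : S} (hx : orderOf x = 3) (hy : orderOf y = 3) :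
    IsConj x y := by
  have hfin : Finite X := Nat.finite_of_card_ne_zero (by rw [hc]; norm_num)
  have key : ∀ w : X, orderOf w = 3 → IsConj w D.t := by
    intro w hw
    have hw1 : w ≠ 1 := by
      rintro rfl
      rw [orderOf_one] at hw
      exact absurd hw (by norm_num)
    have h3 : w ^ 3 ^ 1 = 1 := by
      rw [pow_one, ← hw, pow_orderOf_eq_one]
    obtain ⟨g, hg⟩ := Cfsg.Agent.H20.FrobTits.exists_conj_mem (a := 3) Nat.prime_three (R := D.R)
      (by rw [D.card_R]; norm_num) (by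
        have h := D.R.card_mul_index
        rw [D.card_R, hc] at h
        have h4 : D.R.index = 2 ^ 11 * 5 ^ 2 * 13 := by omega
        rw [h4]; norm_num) h3
    have h1 := D.R_isConj hg (fun h => hw1 (conj_eq_one_iff.1 h))
    exact (isConj_iff.2 ⟨g, rfl⟩).trans h1
  have h1 := key (e x) (by rw [e.orderOf_eq, hx])
  have h2 := key (e y) (by rw [e.orderOf_eq, hy])
  obtain ⟨c, hc'⟩ := isConj_iff.1 (h1.trans h2.symm)
  refine isConj_iff.2 ⟨e.symm c, ?_⟩
  apply e.injective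
  rw [map_mul, map_mul, map_inv, e.apply_symm_apply, hc']

/-- the elements of order 3 are conjugate -/
theorem conj_three {S : Type*} [Group S] (h : Cfsg.Lie.IsoTits S) {x y : S} (hx : orderOf x = 3) (hy : orderOf y = 3) :
    IsConj x y := by
  obtain ⟨e⟩ := h
  obtain ⟨D⟩ := Cfsg.Agent.H87.TitsData.dat_tits
  exact conj_three_aux D Cfsg.Agent.H87.TitsData.card_tits e hx hy

end Cfsg.Agent.H631.TitsD
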