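import Cfsg.Agent.H631.TitsD.Count
import Cfsg.Agent.H631.TitsD.Words
import Cfsg.Agent.H631.TitsD.Sixteen
import Cfsg.Agent.H180.ElTits

/-!
# The Tits group: the data used for the maximal subgroups
-/

set_option autoImplicit false

universe u v

namespace Cfsg.Agent.H631.TitsD

open Subgroup
open Cfsg.Agent.TitsK
open Cfsg.Agent.FourTwo.Base (LL)

/-- the involutions -/
structure Inv (T : Type u) [Group T] (z d : T) : Prop where
  oz : orderOf z = 2
  od : orderOf d = 2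
  cases : ∀ a : T, orderOf a = 2 → IsConj a z ∨ IsConj a d
  z3 : ∀ y : T, orderOf y = 3 → z * y ≠ y * z
  d5 : ∀ y : T, orderOf y = 5 → d * y ≠ y * d
  syl : ∀ Q : Subgroup T, IsPGroup 2 Q → ∃ c, IsConj c z ∧ ∀ s ∈ Q, c * s = s * c
  rank : ∀ B : Subgroup T, (∀ a ∈ B, a * a = 1) → Nat.card B ≤ 32
  few : ∀ B : Subgroup T, (∀ a ∈ B, a * a = 1) → ∀ P : Finset T, (∀ a ∈ P, a ∈ B ∧ IsConj a z) → P.card ≤ 11

theorem IsConj.congr {T : Type u} {X : Type v} [Group T] [Group X] (e : T ≃* X) {a b : T} :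
    IsConj (e a) (e b) ↔ IsConj a b := by
  rw [isConj_iff, isConj_iff]
  constructor
  · rintro ⟨c, hc⟩
    refine ⟨e.symm c, e.injective ?_⟩
    rw [map_mul, map_mul, map_inv, e.apply_symm_apply, hc]
  · rintro ⟨c, hc⟩
    exact ⟨e c, by rw [← map_mul, ← map_inv, ← map_mul, hc]⟩

theorem Inv.congr {T : Type u} {X : Type v} [Group T] [Group X] (e : T ≃* X) {z d : X} (h : Inv X z d) :
    Inv T (e.symm z) (e.symm d) := by
  have hc : ∀ a : T, ∀ b : X, IsConj (e a) b ↔ IsConj a (e.symm b) := fun a b => by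
    rw [← IsConj.congr e, e.apply_symm_apply]
  constructor
  · rw [e.symm.orderOf_eq, h.oz]
  · rw [e.symm.orderOf_eq, h.od]
  · intro a ha
    rw [← hc, ← hc]
    exact h.cases (e a) (by rw [e.orderOf_eq, ha])
  · intro y hy hzy
    refine h.z3 (e y) (by rw [e.orderOf_eq, hy]) ?_
    have := congrArg e hzy
    rwa [map_mul, map_mul, e.apply_symm_apply] at this
  · intro y hy hzy
    refine h.d5 (e y) (by rw [e.orderOf_eq, hy]) ?_
    have := congrArg e hzy
    rwa [map_mul, map_mul, e.apply_symm_apply] at this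
  · intro Q hQ
    obtain ⟨c, hcz, hs⟩ := h.syl (Q.map e.toMonoidHom) (hQ.map _)
    refine ⟨e.symm c, ?_, fun s hsQ => ?_⟩
    · rw [← hc, e.apply_symm_apply]
      exact hcz
    · apply e.injective
      rw [map_mul, map_mul, e.apply_symm_apply]
      exact hs _ ⟨s, hsQ, rfl⟩
  · intro B hB
    have h1 := h.rank (B.map e.toMonoidHom) (by
      rintro _ ⟨a, ha, rfl⟩
      rw [← map_mul, hB a ha, map_one])
    rwa [← Nat.card_congr (B.equivMapOfInjective e.toMonoidHom e.injective).toEquiv] at h1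
  · intro B hB P hP
    classical
    have h1 := h.few (B.map e.toMonoidHom) (by
      rintro _ ⟨a, ha, rfl⟩
      rw [← map_mul, hB a ha, map_one]) (P.image e) (by
      intro a ha
      obtain ⟨b, hb, rfl⟩ := Finset.mem_image.1 ha
      exact ⟨⟨b, (hP b hb).1, rfl⟩, (hc _ _).2 (hP b hb).2⟩)
    rwa [Finset.card_image_of_injective _ e.injective] at h1

/-- the facts in the model -/
structure LF {L : Type u} [Group L] (T H S : Subgroup L) (z d : L) : Prop where
  le : T ≤ H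
  hz : z ∈ T
  hd : d ∈ T
  z2 : z * z = 1
  z1 : z ≠ 1
  d2 : d * d = 1
  d1 : d ≠ 1
  invol : ∀ a ∈ T, a * a = 1 → a ≠ 1 → (∃ t ∈ T, t * a * t⁻¹ = z) ∨ (∃ t ∈ T, t * a * t⁻¹ = d)
  three : ∀ g ∈ T, g ^ 3 = 1 → g * z * g⁻¹ = z → g = 1
  five : ∀ g ∈ T, g ^ 5 = 1 → g * d * g⁻¹ = d → g = 1
  syl : ∀ Q : Subgroup L, Q ≤ T → IsPGroup 2 Q → ∃ h ∈ T, ∀ b ∈ Q, h⁻¹ * b * h ∈ S
  cen : ∀ u ∈ S, u * z * u⁻¹ = z
  rank : ∀ B : Subgroup L, B ≤ H → (∀ a ∈ B, a * a = 1) → Nat.card B ≤ 32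
  few : ∀ B : Subgroup L, B ≤ H → (∀ a ∈ B, a * a = 1) → ∀ P : Finset L,
    (∀ a ∈ P, a ∈ B ∧ ∃ t ∈ H, t * a * t⁻¹ = z) → P.card ≤ 11
  lab : ∀ Q : Subgroup L, Q ≤ H → IsPGroup 2 Q → ∀ x ∈ Q, x ∈ T → orderOf x = 16 → ∀ g ∈ Q, g * x ^ 2 * g⁻¹ ≠ x ^ 6
  aut : ∀ f : ↥T →* L, Function.Injective f → (∀ t, f t ∈ T) → ∃ h ∈ H, ∀ t, f t = h * t * h⁻¹

/-- a power of an element of order a power of 2 -/
theorem exists_odd_pow {L : Type*} [Group L] [Finite L] (h : L) : ∃ m : ℕ, Odd m ∧ IsPGroup 2 (zpowers (h ^ m)) := by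
  obtain ⟨a, m, hm, hn⟩ := Nat.exists_eq_two_pow_mul_odd (orderOf_pos h).ne'
  refine ⟨m, hm, IsPGroup.of_card (n := a) ?_⟩
  rw [Nat.card_zpowers, orderOf_pow_of_dvd (by rintro rfl; exact absurd hm (by decide)) (by rw [hn]; exact dvd_mul_left _ _),
    hn, Nat.mul_div_cancel _ hm.pos]

theorem conj_pow_pow {L : Type*} [Group L] {x h : L} {k : ℕ} (hx : h * x * h⁻¹ = x ^ k) (m : ℕ) :
    h ^ m * x * (h ^ m)⁻¹ = x ^ k ^ m := by
  induction m with
  | zero => simp
  | succ m ih =>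
    calc h ^ (m + 1) * x * (h ^ (m + 1))⁻¹ = h ^ m * (h * x * h⁻¹) * (h ^ m)⁻¹ := by rw [pow_succ]; group
      _ = (h ^ m * x * (h ^ m)⁻¹) ^ k := by rw [hx, conj_pow]
      _ = x ^ k ^ (m + 1) := by rw [ih, ← pow_mul, pow_succ]

theorem three_pow_odd {m : ℕ} (hm : Odd m) : 3 ^ m % 8 = 3 := by
  obtain ⟨k, rfl⟩ := hm
  rw [pow_succ, pow_mul, Nat.mul_mod, Nat.pow_mod]
  norm_num

theorem pow_six_of {L : Type*} [Group L] {x : L} (h16 : x ^ 16 = 1) {k : ℕ} (hk : k % 8 = 3) : (x ^ k) ^ 2 = x ^ 6 := by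
  rw [← pow_mul]
  have h1 : k * 2 = 16 * (k / 8) + 6 := by omega
  rw [h1, pow_add, pow_mul, h16, one_pow, one_mul]

namespace LF

variable {L : Type u} [Group L] {T H S : Subgroup L} {z d : L} (F : LF T H S z d)

/-- the elements of `T` -/
def zT : ↥T := ⟨z, F.hz⟩
/-- the elements of `T` -/
def dT : ↥T := ⟨d, F.hd⟩

include F

theorem map_le_H (B : Subgroup ↥T) : B.map T.subtype ≤ H := by
  rintro _ ⟨a, -, rfl⟩
  exact F.le a.2

omit F in
theorem sq_map {B : Subgroup ↥T} (hB : ∀ a ∈ B, a * a = 1) : ∀ a ∈ B.map T.subtype, a * a = 1 := by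
  rintro _ ⟨a, ha, rfl⟩
  rw [← map_mul, hB a ha, map_one]

theorem inv : Inv ↥T F.zT F.dT where
  oz := by
    have : Fact (Nat.Prime 2) := ⟨Nat.prime_two⟩
    exact orderOf_eq_prime (by rw [pow_two]; exact Subtype.ext F.z2) fun h => F.z1 (congrArg Subtype.val h)
  od := by
    have : Fact (Nat.Prime 2) := ⟨Nat.prime_two⟩
    exact orderOf_eq_prime (by rw [pow_two]; exact Subtype.ext F.d2) fun h => F.d1 (congrArg Subtype.val h)
  cases := by
    intro a ha
    have h3 : a * a = 1 := by rw [← pow_two, ← ha, pow_orderOf_eq_one]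
    have h2 : (a : L) * a = 1 := congrArg Subtype.val h3
    have h1 : (a : L) ≠ 1 := by
      intro h
      have h3 : a = 1 := Subtype.ext h
      rw [h3, orderOf_one] at ha
      exact absurd ha (by norm_num)
    rcases F.invol a a.2 h2 h1 with ⟨t, ht, hta⟩ | ⟨t, ht, hta⟩
    · exact Or.inl (isConj_iff.2 ⟨⟨t, ht⟩, Subtype.ext hta⟩)
    · exact Or.inr (isConj_iff.2 ⟨⟨t, ht⟩, Subtype.ext hta⟩)
  z3 := by
    intro y hy h
    have h3 : y ^ 3 = 1 := by rw [← hy, pow_orderOf_eq_one]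
    have h1 : z * (y : L) = y * z := congrArg Subtype.val h
    have h4 := F.three y y.2 (congrArg Subtype.val h3) (by rw [← h1, mul_inv_cancel_right])
    have h5 : y = 1 := Subtype.ext h4
    rw [h5, orderOf_one] at hy
    exact absurd hy (by norm_num)
  d5 := by
    intro y hy h
    have h3 : y ^ 5 = 1 := by rw [← hy, pow_orderOf_eq_one]
    have h1 : d * (y : L) = y * d := congrArg Subtype.val h
    have h4 := F.five y y.2 (congrArg Subtype.val h3) (by rw [← h1, mul_inv_cancel_right])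
    have h5 : y = 1 := Subtype.ext h4
    rw [h5, orderOf_one] at hy
    exact absurd hy (by norm_num)
  syl := by
    intro Q hQ
    have hQ' : IsPGroup 2 ↥(Q.map T.subtype) := hQ.map _
    have hle : Q.map T.subtype ≤ T := by
      rintro _ ⟨a, -, rfl⟩
      exact a.2
    obtain ⟨h, hh, h2⟩ := F.syl _ hle hQ'
    refine ⟨⟨h, hh⟩ * F.zT * ⟨h, hh⟩⁻¹, isConj_iff.2 ⟨⟨h, hh⟩⁻¹, by group⟩, fun s hs => ?_⟩
    have h3 := h2 s ⟨s, hs, rfl⟩
    have h4 := F.cen _ h3
    apply Subtype.ext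
    show h * z * h⁻¹ * (s : L) = s * (h * z * h⁻¹)
    have h5 : h⁻¹ * (s : L) * h * z = z * (h⁻¹ * s * h) := by
      calc h⁻¹ * (s : L) * h * z = (h⁻¹ * s * h * z * (h⁻¹ * s * h)⁻¹) * (h⁻¹ * s * h) := by group
        _ = z * (h⁻¹ * s * h) := by rw [h4]
    calc h * z * h⁻¹ * (s : L) = h * (z * (h⁻¹ * s * h)) * h⁻¹ := by group
      _ = h * (h⁻¹ * s * h * z) * h⁻¹ := by rw [h5]
      _ = s * (h * z * h⁻¹) := by group
  rank := by
    intro B hB
    have h1 := F.rank _ (F.map_le_H B) (sq_map hB)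
    rwa [← Nat.card_congr (B.equivMapOfInjective T.subtype T.subtype_injective).toEquiv] at h1
  few := by
    intro B hB P hP
    classical
    have h1 := F.few _ (F.map_le_H B) (sq_map hB) (P.image Subtype.val) (by
      intro a ha
      obtain ⟨b, hb, rfl⟩ := Finset.mem_image.1 ha
      obtain ⟨c, hc⟩ := isConj_iff.1 (hP b hb).2
      exact ⟨⟨b, (hP b hb).1, rfl⟩, c, F.le c.2, congrArg Subtype.val hc⟩)
    rwa [Finset.card_image_of_injective _ Subtype.val_injective] at h1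

/-- the square of an element of order 16 is not conjugate to its cube in a 2-group -/
theorem labT (Q : Subgroup ↥T) (hQ : IsPGroup 2 Q) (x : ↥T) (hx : x ∈ Q) (ho : orderOf x = 16) (g : ↥T) (hg : g ∈ Q) :
    g * x ^ 2 * g⁻¹ ≠ x ^ 6 := by
  intro h
  refine F.lab (Q.map T.subtype) (F.map_le_H Q) (hQ.map _) x ⟨x, hx, rfl⟩ x.2 (by rw [Subgroup.orderOf_coe, ho]) g
    ⟨g, hg, rfl⟩ ?_
  exact congrArg Subtype.val h

/-- two classes of elements of order 16 -/
theorem two16 [Finite L] (x : ↥T) (ho : orderOf x = 16) (φ : ↥T ≃* ↥T) : φ x ≠ x ^ 3 := by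
  have : Fact (Nat.Prime 2) := ⟨Nat.prime_two⟩
  intro hφ
  obtain ⟨h, hh, hf⟩ := F.aut (T.subtype.comp φ.toMonoidHom) (T.subtype_injective.comp φ.injective)
    (fun t => (φ t).2)
  have h1 : h * (x : L) * h⁻¹ = (x : L) ^ 3 := by
    have h2 := hf x
    rw [← h2]
    show ((φ x : ↥T) : L) = _
    rw [hφ]
    rfl
  obtain ⟨m, hm, h2⟩ := exists_odd_pow h
  have h3 := conj_pow_pow h1 m
  have ho' : orderOf (x : L) = 16 := by rw [Subgroup.orderOf_coe, ho]
  have h16 : (x : L) ^ 16 = 1 := by rw [← ho', pow_orderOf_eq_one]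
  have hgx : h ^ m ∈ normalizer ((zpowers (x : L) : Subgroup L) : Set L) := by
    have key : zpowers (h ^ m) ≤ normalizer ((zpowers (x : L) : Subgroup L) : Set L) := by
      rw [zpowers_le]
      have hsub : (zpowers (x : L)).map (MulAut.conj (h ^ m)).toMonoidHom ≤ zpowers (x : L) := by
        rintro _ ⟨y, hy, rfl⟩
        obtain ⟨k, rfl⟩ := mem_zpowers_iff.1 hy
        rw [MonoidHom.map_zpow]
        have h4 : (MulAut.conj (h ^ m)).toMonoidHom (x : L) = (x : L) ^ 3 ^ m := h3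
        rw [h4]
        exact zpow_mem (pow_mem (mem_zpowers _) _) _
      have heq : (zpowers (x : L)).map (MulAut.conj (h ^ m)).toMonoidHom = zpowers (x : L) :=
        Subgroup.eq_of_le_of_card_ge hsub (by
          rw [Subgroup.card_map_of_injective (MulAut.conj (h ^ m)).injective])
      rw [Subgroup.mem_normalizer_iff]
      intro y
      constructor
      · intro hy
        exact hsub ⟨y, hy, rfl⟩
      · intro hy
        have h5 : h ^ m * y * (h ^ m)⁻¹ ∈ (zpowers (x : L)).map (MulAut.conj (h ^ m)).toMonoidHom := by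
          rw [heq]; exact hy
        obtain ⟨w, hw, hw'⟩ := h5
        have h6 : h ^ m * w * (h ^ m)⁻¹ = h ^ m * y * (h ^ m)⁻¹ := hw'
        have h7 : w = y := mul_left_cancel (mul_right_cancel h6)
        exact h7 ▸ hw
    exact key (mem_zpowers _)
  have hx2 : IsPGroup 2 (zpowers (x : L)) := IsPGroup.of_card (n := 4) (by rw [Nat.card_zpowers, ho']; norm_num)
  have hQ : IsPGroup 2 ↥(zpowers (h ^ m) ⊔ zpowers (x : L)) :=
    h2.to_sup_of_normal_right' hx2 (by rw [zpowers_le]; exact hgx)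
  refine F.lab _ ?_ hQ x (Subgroup.mem_sup_right (mem_zpowers _)) x.2 ho' (h ^ m) (Subgroup.mem_sup_left (mem_zpowers _)) ?_
  · rw [sup_le_iff, zpowers_le, zpowers_le]
    exact ⟨pow_mem hh m, F.le x.2⟩
  · rw [← conj_pow, h3]
    exact pow_six_of h16 (three_pow_odd hm)

end LF

theorem autTT (f : ↥TT →* LL) (hf : Function.Injective f) (hm : ∀ t, f t ∈ TT) : ∃ h ∈ HT, ∀ t, f t = h * t * h⁻¹ := by
  have hfin : Finite LL := by infer_instance
  exact TData.exists_conj (D := tdata) ⟨hf, hm⟩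

theorem lf : LF TT HT (UT ⊓ TT) z d where
  le := TT_le
  hz := z_mem_TT
  hd := d_mem_TT
  z2 := z_sq
  z1 := z_ne
  d2 := d_sq
  d1 := d_ne
  invol := Cfsg.Agent.CpAutTits.Ten.facts.invol
  three g hg h3 h := three_z (TT_le hg) h3 h
  five g hg h5 h := five_d (TT_le hg) h5 h
  syl Q hQ h2 := by
    have hfin : Finite LL := by infer_instance
    exact KAbs.exists_conj_le tdata.odd_S hQ h2
  cen u hu := z_central hu.1
  rank B hB hsq := card_elem_five hB hsq
  few B hB hsq P hP := card_A hB hsq hP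
  lab Q hQ h2 x hx hxT ho g hg := Cfsg.Agent.H631.TitsD.lab hQ h2 hx hxT ho hg
  aut := autTT

/-- the facts on the elements of order 16 -/
structure Lb (T : Type u) [Group T] : Prop where
  lab : ∀ Q : Subgroup T, IsPGroup 2 Q → ∀ x ∈ Q, orderOf x = 16 → ∀ g ∈ Q, g * x ^ 2 * g⁻¹ ≠ x ^ 6
  two : ∀ x : T, orderOf x = 16 → ∀ φ : T ≃* T, φ x ≠ x ^ 3

theorem LF.lb {L : Type u} [Group L] [Finite L] {T H S : Subgroup L} {z d : L} (F : LF T H S z d) : Lb ↥T where
  lab Q hQ x hx ho g hg := F.labT Q hQ x hx ho g hg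
  two x ho φ := F.two16 x ho φ

theorem Lb.congr {T : Type u} {X : Type v} [Group T] [Group X] (e : T ≃* X) (h : Lb X) : Lb T where
  lab Q hQ x hx ho g hg hc := by
    refine h.lab (Q.map e.toMonoidHom) (hQ.map _) (e x) ⟨x, hx, rfl⟩ (by rw [e.orderOf_eq, ho]) (e g) ⟨g, hg, rfl⟩ ?_
    rw [← map_pow, ← map_inv, ← map_mul, ← map_mul, hc, map_pow]
  two x ho φ hc := by
    refine h.two (e x) (by rw [e.orderOf_eq, ho]) ((e.symm.trans φ).trans e) ?_
    show e (φ (e.symm (e x))) = _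
    rw [e.symm_apply_apply, hc, map_pow]

theorem inv_of_equiv {T : Type u} [Group T] {L : Type v} [Group L] {S H U : Subgroup L} {z d : L} (F : LF S H U z d)
    (e : T ≃* S) : ∃ z d : T, Inv T z d := ⟨_, _, F.inv.congr e⟩

/-- the data -/
structure TD (T : Type u) [Group T] : Prop where
  card : Nat.card T = 17971200
  c3 : ∀ y : T, orderOf y = 3 → Nat.card (centralizer ({y} : Set T)) = 108
  c5 : ∀ y : T, orderOf y = 5 → Nat.card (centralizer ({y} : Set T)) = 50
  c13 : ∀ y : T, orderOf y = 13 → Nat.card (centralizer ({y} : Set T)) = 13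
  els : Els T
  conj3 : ∀ x y : T, orderOf x = 3 → orderOf y = 3 → IsConj x y
  inv : ∃ z d : T, Inv T z d
  lb : Lb T

theorem lb_of_equiv {T : Type u} [Group T] {L : Type v} [Group L] [Finite L] {S H U : Subgroup L} {z d : L}
    (F : LF S H U z d) (e : T ≃* S) : Lb T := F.lb.congr e

theorem td_of {T : Type u} [Group T] (h : Cfsg.Lie.IsoTits T) : TD T := by
  have hN := Cfsg.Agent.NotCT.Orders.tits h
  have : Finite T := Nat.finite_of_card_ne_zero (by rw [hN]; norm_num)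
  have hs : IsSimpleGroup T := Cfsg.Agent.H180.ElS.simple_tits h
  refine ⟨hN, fun y hy => Cfsg.Agent.H488.PBRow.TitsThree.card_cent_three h hy, fun y hy => ?_, fun y hy => ?_,
    els_of h, fun x y hx hy => conj_three h hx hy, ?_, ?_⟩
  · exact (Cfsg.Agent.CpAutTits.Row.out h).cent y hy
  · exact Cfsg.Agent.H547.SelfCent.tits h hs (Cfsg.Agent.H393.Iso.na_tits h) hy
  · obtain ⟨e⟩ := Cfsg.Agent.CpAutTits.Row.exists_equiv h
    exact inv_of_equiv lf e
  · obtain ⟨e⟩ := Cfsg.Agent.CpAutTits.Row.exists_equiv h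
    have hfin : Finite LL := by infer_instance
    exact lb_of_equiv lf e

end Cfsg.Agent.H631.TitsD
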