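import Cfsg.Agent.H631.TitsD.Thirteen
import Cfsg.Agent.H439.Der.Three

/-!
# The Tits group: the strong row (S3502)
-/

set_option autoImplicit false
set_option linter.unusedSectionVars false

universe u

namespace Cfsg.Agent.H631.TitsD

open Subgroup Cfsg.Agent.OrdDiv Cfsg.Agent.H257.El Cfsg.Agent.H180.ElS Cfsg.Agent.H439.Der

namespace TD

variable {T : Type u} [Group T] [Finite T] (D : TD T)

include D

/-- an element of order 10 -/
theorem exists_ten : ∃ g : T, orderOf g = 10 := by
  have : Fact (Nat.Prime 5) := ⟨Nat.prime_five⟩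
  have : Fact (Nat.Prime 2) := ⟨Nat.prime_two⟩
  obtain ⟨y, hy⟩ := exists_prime_orderOf_dvd_card' (G := T) 5 (by rw [D.card]; norm_num)
  obtain ⟨s, hs⟩ := exists_prime_orderOf_dvd_card' (G := centralizer ({y} : Set T)) 2 (by rw [D.c5 y hy]; norm_num)
  refine ⟨y * s, ?_⟩
  exact orderOf_mul_of_comm Nat.prime_five Nat.prime_two (by norm_num) hy
    (by rw [Subgroup.orderOf_coe, hs]) (mem_centralizer_singleton_iff.1 s.2).symm

/-- an element of order 6 -/
theorem exists_six : ∃ g : T, orderOf g = 6 := by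
  have : Fact (Nat.Prime 3) := ⟨Nat.prime_three⟩
  have : Fact (Nat.Prime 2) := ⟨Nat.prime_two⟩
  obtain ⟨y, hy⟩ := exists_prime_orderOf_dvd_card' (G := T) 3 (by rw [D.card]; norm_num)
  obtain ⟨s, hs⟩ := exists_prime_orderOf_dvd_card' (G := centralizer ({y} : Set T)) 2 (by rw [D.c3 y hy]; norm_num)
  refine ⟨y * s, ?_⟩
  exact orderOf_mul_of_comm Nat.prime_three Nat.prime_two (by norm_num) hy
    (by rw [Subgroup.orderOf_coe, hs]) (mem_centralizer_singleton_iff.1 s.2).symm

/-- no elements of order 16 -/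
theorem three_of_no16 {M : Subgroup T} (h : ∀ m ∈ M, orderOf m ≠ 16) (hd : H396.Der T M) : Three T M := by
  obtain ⟨w, hw, hwM⟩ := hd
  obtain ⟨x, hx⟩ := D.els.o16
  have h16 : (16 : ℕ).Prime → False := by norm_num
  refine ⟨x, x ^ 3, w, fun φ hφ => h _ hφ ?_, fun φ hφ => h _ hφ ?_, hwM, fun φ => D.lb.two x hx φ, fun φ hφ => ?_,
    fun φ hφ => ?_⟩
  · rw [φ.orderOf_eq, hx]
  · rw [φ.orderOf_eq, (Nat.Coprime.orderOf_pow (by rw [hx]; decide)), hx]
  · rw [← hφ, φ.orderOf_eq, hx] at hw
    exact h16 hw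
  · rw [← hφ, φ.orderOf_eq, (Nat.Coprime.orderOf_pow (by rw [hx]; decide)), hx] at hw
    exact h16 hw

end TD

/-- every proper subgroup misses three classes -/
theorem three_tits (tab : OrderTable.{u}) (known : Known.{u}) {T : Type u} [Group T] (h : Cfsg.Lie.IsoTits T)
    {M : Subgroup T} (hM : M ≠ ⊤) : Three T M := by
  have D := td_of h
  have : Finite T := Nat.finite_of_card_ne_zero (by rw [D.card]; norm_num)
  have hd := der_tits tab known h hM
  by_cases h13 : 13 ∣ Nat.card M
  · exact D.three_of_no16 (no16_B tab known h hM h13) hd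
  have : Fact (Nat.Prime 13) := ⟨by norm_num⟩
  have : Fact (Nat.Prime 5) := ⟨Nat.prime_five⟩
  have : Fact (Nat.Prime 3) := ⟨Nat.prime_three⟩
  obtain ⟨w, hw⟩ := exists_prime_orderOf_dvd_card' (G := T) 13 (by rw [D.card]; norm_num)
  have hmiss : ∀ {p k : ℕ}, ¬ p ∣ Nat.card M → p ∣ k → ∀ m ∈ M, orderOf m ≠ k := by
    intro p k hp hk m hm hmk
    apply hp
    exact (hmk ▸ hk).trans (Subgroup.orderOf_dvd_natCard M hm)
  by_cases h3 : 3 ∣ Nat.card M
  · by_cases h5 : 5 ∣ Nat.card M
    · exact D.three_of_no16 (D.no16_A tab known h3 h5 h13) hd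
    · obtain ⟨y, hy⟩ := exists_prime_orderOf_dvd_card' (G := T) 5 (by rw [D.card]; norm_num)
      obtain ⟨g, hg⟩ := D.exists_ten
      exact Three.of_orders (by norm_num) (by norm_num) (by norm_num) hy hg hw (hmiss h5 (by norm_num))
        (hmiss h5 (by norm_num)) (hmiss h13 (by norm_num))
  · obtain ⟨y, hy⟩ := exists_prime_orderOf_dvd_card' (G := T) 3 (by rw [D.card]; norm_num)
    obtain ⟨g, hg⟩ := D.exists_six
    exact Three.of_orders (by norm_num) (by norm_num) (by norm_num) hy hg hw (hmiss h3 (by norm_num))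
      (hmiss h3 (by norm_num)) (hmiss h13 (by norm_num))

/-- **the strong row for the Tits group** (with the order table and the classification as hypotheses) -/
theorem rowS_tits_of (tab : OrderTable.{u}) (known : Known.{u}) {T : Type u} [Group T] (h : Cfsg.Lie.IsoTits T) :
    RowS T := by
  have D := td_of h
  have : Finite T := Nat.finite_of_card_ne_zero (by rw [D.card]; norm_num)
  exact RowS.of_three fun M hM => three_tits tab known h hM.1

end Cfsg.Agent.H631.TitsD
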