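import Cfsg.Agent.TitsK.RankRK
import Cfsg.Agent.TitsK.CentOdd
import Cfsg.Agent.CpAutTits.Row

/-!
# The Tits group: an elementary abelian 2-subgroup contains at most 11 involutions of the central class
-/

set_option autoImplicit false
set_option Elab.async false

namespace Cfsg.Agent.H631.TitsD

open Cfsg.Lie Cfsg.Agent.ChevalleyStructure.TwF4.Tables
open Cfsg.Agent.TitsK
open Cfsg.Agent.FourTwo.Base hiding bar bar_lt
open Cfsg.Agent.FourTwo.BN Cfsg.Agent.FourTwo.Comm Cfsg.Agent.FourTwo.Classes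
open Cfsg.Agent.FourTwo.UCode (mulU invU conjU lets colW colF force force_eq mem_lets wel_lets wel_mem)

/-- the codes of the central class commuting with more than 11 members of this class -/
def EX : List ℕ := [9437184, 13697024, 4259840]

theorem chk_EX : (LA.all fun e => memB e EX || Nat.ble (cc e LA) 11) = true := by decide +kernel

theorem LA_lt : ∀ e ∈ LA, e < 2 ^ 24 := by
  have h : (LA.all fun e => Nat.blt e 16777216) = true := by decide +kernel
  rw [List.all_eq_true] at h
  intro e he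
  have h1 := h e he
  rw [Nat.blt_eq] at h1
  exact h1

theorem card_le_codes {P : Finset LL} {L : List ℕ} (h : ∀ a ∈ P, ∃ e ∈ L, a = ec e) : P.card ≤ L.length := by
  classical
  have h1 : P ⊆ L.toFinset.image ec := by
    intro a ha
    obtain ⟨e, he, rfl⟩ := h a ha
    exact Finset.mem_image_of_mem _ (List.mem_toFinset.2 he)
  exact (Finset.card_le_card h1).trans (Finset.card_image_le.trans (List.toFinset_card_le L))

/-- `z` and `d` are not conjugate -/
theorem not_conj {g : LL} (hg : g ∈ HT) : g * z * g⁻¹ ≠ d := by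
  intro h
  have F := Cfsg.Agent.CpAutTits.Ten.facts
  have h5 := five_d (g := g * Cfsg.Agent.TitsK.xf * g⁻¹)
    (HT.mul_mem (HT.mul_mem hg (TT_le F.hx)) (HT.inv_mem hg)) (by
      rw [conj_pow, F.x5, mul_one, mul_inv_cancel]) (by
      have hc := F.comm
      rw [← h]
      calc g * xf * g⁻¹ * (g * z * g⁻¹) * (g * xf * g⁻¹)⁻¹ = g * (xf * z * xf⁻¹) * g⁻¹ := by group
        _ = g * z * g⁻¹ := by rw [hc, mul_inv_cancel_right])
  apply F.x1
  have h6 : xf = g⁻¹ * (g * xf * g⁻¹) * g := by group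
  rw [h6, h5]
  group

/-- **at most 11 involutions of the central class in an elementary abelian subgroup of `UT`** -/
theorem card_A_UT {B : Subgroup LL} (hB : B ≤ UT) (hsq : ∀ a ∈ B, a * a = 1) {P : Finset LL}
    (hP : ∀ a ∈ P, a ∈ B ∧ ∃ t ∈ HT, t * a * t⁻¹ = z) : P.card ≤ 11 := by
  by_contra hc
  rw [not_le] at hc
  have hcomm : ∀ a ∈ B, ∀ b ∈ B, a * b = b * a := by
    intro a ha b hb
    have h1 := hsq _ (mul_mem ha hb)
    calc a * b = a * (a * b * (a * b)) * b := by rw [h1, mul_one]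
      _ = (a * a) * (b * a) * (b * b) := by group
      _ = b * a := by rw [hsq a ha, hsq b hb, one_mul, mul_one]
  have hcode : ∀ a ∈ P, ∃ e ∈ LA, a = ec e := by
    intro a ha
    obtain ⟨haB, t, ht, hta⟩ := hP a ha
    have h1 : a ≠ 1 := by
      rintro rfl
      rw [mul_one, mul_inv_cancel] at hta
      exact z_ne hta.symm
    obtain ⟨e, he, rfl, -, h2⟩ := ST_all chk_invol (hB haB) (no_outer_invol (hB haB) (hsq _ haB))
    have h4 : ec (mulU e e) = ec 0 := by rw [ec_mulU, hsq _ haB, ec_zero]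
    have h5 : mulU e e = 0 := ec_inj (mulU_lt he e) (by norm_num) h4
    have h6 : Nat.beq (mulU e e) 0 = true := by rw [h5]; rfl
    rw [h6, cond_true, Bool.or_eq_true, Bool.or_eq_true] at h2
    rcases h2 with (h2 | h2) | h2
    · exfalso
      rw [Nat.eq_of_beq_eq_true h2, ec_zero] at h1
      exact h1 rfl
    · exact ⟨e, memB_spec h2, rfl⟩
    · exfalso
      obtain ⟨s, hs, hse⟩ := LB_spec e (memB_spec h2)
      refine not_conj (g := s * t⁻¹) (HT.mul_mem (TT_le hs) (HT.inv_mem ht)) ?_
      rw [← hta, ← hse]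
      group
  have hEX := chk_EX
  rw [List.all_eq_true] at hEX
  have h3 : P.card ≤ EX.length := by
    refine card_le_codes fun a ha => ?_
    obtain ⟨e, he, rfl⟩ := hcode a ha
    refine ⟨e, ?_, rfl⟩
    have h2 := hEX e he
    rw [Bool.or_eq_true] at h2
    rcases h2 with h2 | h2
    · exact memB_spec h2
    · exfalso
      have h3 := Nat.le_of_ble_eq_true h2
      have h4 : P.card ≤ (LA.filter fun a => Nat.beq (mulU e a) (mulU a e)).length := by
        refine card_le_codes fun c hc => ?_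
        obtain ⟨f, hf, rfl⟩ := hcode c hc
        refine ⟨f, ?_, rfl⟩
        rw [List.mem_filter]
        refine ⟨hf, ?_⟩
        have h5 : ec (mulU e f) = ec (mulU f e) := by
          rw [ec_mulU, ec_mulU, hcomm _ (hP _ ha).1 _ (hP _ hc).1]
        rw [ec_inj (mulU_lt (LA_lt e he) f) (mulU_lt (LA_lt f hf) e) h5, Nat.beq_refl]
      rw [cc_eq] at h4
      omega
  have h4 : EX.length = 3 := rfl
  omega

/-- **at most 11 involutions of the central class in an elementary abelian subgroup** -/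
theorem card_A {B : Subgroup LL} (hB : B ≤ HT) (hsq : ∀ a ∈ B, a * a = 1) {P : Finset LL}
    (hP : ∀ a ∈ P, a ∈ B ∧ ∃ t ∈ HT, t * a * t⁻¹ = z) : P.card ≤ 11 := by
  classical
  obtain ⟨h, hh, h2⟩ := KAbs.exists_conj_le odd_UT hB (isPGroup_of_sq hsq)
  have key := card_A_UT (B := B.map (MulAut.conj h⁻¹).toMonoidHom) (P := P.image fun a => h⁻¹ * a * h) (by
      rintro _ ⟨b, hb, rfl⟩
      have h3 : (MulAut.conj h⁻¹).toMonoidHom b = h⁻¹ * b * h := by simp
      rw [h3]
      exact h2 b hb) (by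
      rintro _ ⟨b, hb, rfl⟩
      rw [← map_mul, hsq b hb, map_one]) (by
      intro a ha
      obtain ⟨b, hb, rfl⟩ := Finset.mem_image.1 ha
      obtain ⟨hbB, t, ht, htb⟩ := hP b hb
      refine ⟨⟨b, hbB, by simp⟩, t * h, HT.mul_mem ht hh, ?_⟩
      rw [← htb]
      group)
  rwa [Finset.card_image_of_injective] at key
  intro a b hab
  have h3 : h⁻¹ * a * h = h⁻¹ * b * h := hab
  calc a = h * (h⁻¹ * a * h) * h⁻¹ := by group
    _ = h * (h⁻¹ * b * h) * h⁻¹ := by rw [h3]
    _ = b := by group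

end Cfsg.Agent.H631.TitsD
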