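import Cfsg.Agent.H631.TitsD.Row
import Cfsg.Agent.OrdDiv.Table
import Cfsg.Agent.S0000

/-!
# The Tits group: the strong row (S3502)
-/

set_option autoImplicit false

universe u

namespace Cfsg.Agent.H631.TitsD

/-- **the strong row for the Tits group** -/
theorem rowS_tits {T : Type u} [Group T] (h : Cfsg.Lie.IsoTits T) : Cfsg.Agent.H439.Der.RowS T :=
  rowS_tits_of Cfsg.Agent.OrdDiv.table (fun _ _ _ _ => Cfsg.Agent.S0000.result) h

end Cfsg.Agent.H631.TitsD
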