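import Cfsg.Agent.H631.TitsD.Sub

/-!
# The Tits group: no element of order 16 normalises a subgroup of order 25 normalised by elements of order 3 and 5
-/

set_option autoImplicit false
set_option linter.unusedSectionVars false

universe u

namespace Cfsg.Agent.H631.TitsD

open Subgroup

theorem mul_mod_sixteen : ∀ j < 16, j ≠ 0 → ∃ k : ℕ, j * k % 16 = 8 := by
  have h : ∀ j < 16, j ≠ 0 → ∃ k < 16, j * k % 16 = 8 := by decide
  intro j hj hj0
  obtain ⟨k, -, hk⟩ := h j hj hj0
  exact ⟨k, hk⟩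

namespace TD

variable {T : Type u} [Group T] [Finite T] (D : TD T)

include D

/-- the involution `x ^ 8` does not centralise `N` -/
theorem not_central {M N : Subgroup T} (hN : Nat.card N = 25) (hNM : N ≤ M) (hMN : ∀ m ∈ M, ∀ e ∈ N, m * e * m⁻¹ ∈ N)
    {t y s : T} (ht : orderOf t = 3) (hy : orderOf y = 5) (hs : orderOf s = 2) (htM : t ∈ M) (hyM : y ∈ M)
    (hsM : s ∈ M) (h : ∀ e ∈ N, s * e = e * s) : False := by
  have : Fact (Nat.Prime 5) := ⟨Nat.prime_five⟩
  have h5 : IsPGroup 5 N := IsPGroup.of_card (n := 2) (by rw [hN]; norm_num)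
  have hcomm : ∀ a ∈ N, ∀ b ∈ N, a * b = b * a := by
    have := IsPGroup.isMulCommutative_of_card_eq_prime_sq (G := N) (p := 5) (by rw [hN]; norm_num)
    intro a ha b hb
    exact congrArg Subtype.val (this.is_comm.comm ⟨a, ha⟩ ⟨b, hb⟩)
  -- the centralizer
  set C : Subgroup T := M ⊓ centralizer (N : Set T) with hC
  have hNC : N ≤ C := fun a ha => ⟨hNM ha, mem_centralizer_iff.2 fun b hb => hcomm b hb a ha⟩
  have hsC : s ∈ C := ⟨hsM, mem_centralizer_iff.2 fun b hb => (h b hb).symm⟩
  obtain ⟨n, hn⟩ := exists_prime_orderOf_dvd_card' (G := N) 5 (by rw [hN]; norm_num)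
  have hn' : orderOf (n : T) = 5 := by rw [Subgroup.orderOf_coe, hn]
  have hC50 : Nat.card C ∣ 50 := by
    rw [← D.c5 n hn']
    refine Subgroup.card_dvd_of_le fun c hc => mem_centralizer_singleton_iff.2 ?_
    exact (mem_centralizer_iff.1 hc.2 n n.2).symm
  have hrel : Nat.card N * N.relIndex C = Nat.card C := by
    have := Subgroup.card_mul_index (N.subgroupOf C)
    rwa [Nat.card_congr (Subgroup.subgroupOfEquivOfLe hNC).toEquiv] at this
  have h2C : 2 ∣ Nat.card C := by
    have h3 := Subgroup.orderOf_dvd_natCard C hsC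
    rwa [hs] at h3
  have hidx : N.relIndex C = 2 := by
    rw [hN] at hrel
    have h6 : 25 * N.relIndex C ∣ 50 := by rw [hrel]; exact hC50
    have h7 : N.relIndex C ∣ 2 := by
      have : (50 : ℕ) = 25 * 2 := by norm_num
      rw [this] at h6
      exact Nat.dvd_of_mul_dvd_mul_left (by norm_num) h6
    rcases (Nat.dvd_prime Nat.prime_two).1 h7 with h8 | h8
    · exfalso
      rw [h8] at hrel
      rw [← hrel] at h2C
      revert h2C; norm_num
    · exact h8
  have huniq : ∀ c ∈ C, orderOf c = 2 → c = s := by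
    intro c hc hco
    have hnot : ∀ x ∈ C, orderOf x = 2 → x ∉ N := by
      intro x _ hx hxN
      have h3 := Subgroup.orderOf_dvd_natCard N hxN
      rw [hx, hN] at h3
      revert h3; norm_num
    have h1 : c * s ∈ N := by
      have h2 := Subgroup.mul_mem_iff_of_index_two (H := N.subgroupOf C) hidx (a := ⟨c, hc⟩) (b := ⟨s, hsC⟩)
      have h3 : (⟨c, hc⟩ : C) ∉ N.subgroupOf C := fun h => hnot c hc hco h
      have h4 : (⟨s, hsC⟩ : C) ∉ N.subgroupOf C := fun h => hnot s hsC hs h
      exact h2.2 (iff_of_false h3 h4)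
    have hss : s * s = 1 := by rw [← pow_two, ← hs, pow_orderOf_eq_one]
    have hcc : c * c = 1 := by rw [← pow_two, ← hco, pow_orderOf_eq_one]
    have h5' : (c * s) ^ 2 = 1 := by
      have h6 : s * (c * s) = (c * s) * s := h _ h1
      rw [pow_two]
      calc c * s * (c * s) = c * (s * (c * s)) := by group
        _ = c * ((c * s) * s) := by rw [h6]
        _ = (c * c) * (s * s) := by group
        _ = 1 := by rw [hcc, hss, one_mul]
    have h7 : orderOf (c * s) ∣ Nat.gcd 2 25 := by
      refine Nat.dvd_gcd (orderOf_dvd_of_pow_eq_one h5') ?_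
      rw [← hN]
      exact Subgroup.orderOf_dvd_natCard N h1
    have h8 : c * s = 1 := orderOf_eq_one_iff.1 (Nat.dvd_one.1 h7)
    calc c = c * s * s⁻¹ := by group
      _ = s⁻¹ := by rw [h8, one_mul]
      _ = s := inv_eq_of_mul_eq_one_left hss
  have hcen : ∀ m ∈ M, s * m = m * s := by
    intro m hm
    have hmC : m * s * m⁻¹ ∈ C := by
      refine ⟨M.mul_mem (M.mul_mem hm hsM) (M.inv_mem hm), mem_centralizer_iff.2 fun b hb => ?_⟩
      have h3 := hMN m⁻¹ (M.inv_mem hm) b hb
      rw [inv_inv] at h3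
      have h4 := h _ h3
      calc b * (m * s * m⁻¹) = m * ((m⁻¹ * b * m) * s) * m⁻¹ := by group
        _ = m * (s * (m⁻¹ * b * m)) * m⁻¹ := by rw [h4]
        _ = m * s * m⁻¹ * b := by group
    have h3 := huniq _ hmC ((orderOf_conj' m s).trans hs)
    calc s * m = (m * s * m⁻¹) * m := by rw [h3]
      _ = m * s := by group
  exact D.not_both hs ht hy (hcen t htM) (hcen y hyM)

/-- **no element of order 16** -/
theorem five_sixteen {M N : Subgroup T} (hN : Nat.card N = 25) (hNM : N ≤ M)
    (hMN : ∀ m ∈ M, ∀ e ∈ N, m * e * m⁻¹ ∈ N)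
    {t y : T} (ht : orderOf t = 3) (hy : orderOf y = 5) (htM : t ∈ M) (hyM : y ∈ M) {x : T} (hxM : x ∈ M)
    (hx : orderOf x = 16) : False := by
  classical
  have hs : orderOf (x ^ 8) = 2 := by
    rw [orderOf_pow_of_dvd (by norm_num) (by rw [hx]; norm_num), hx]
  set F : Subgroup T := N ⊓ centralizer ({x ^ 8} : Set T) with hF
  have hFN : F ≤ N := inf_le_left
  by_cases hFe : N ≤ F
  · exact D.not_central hN hNM hMN ht hy hs htM hyM (M.pow_mem hxM 8) fun e he =>
      (mem_centralizer_singleton_iff.1 (hFe he).2).symm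
  -- the action
  have hFx : ∀ g ∈ zpowers x, ∀ e, e ∈ N ∧ e ∉ F → g * e * g⁻¹ ∈ N ∧ g * e * g⁻¹ ∉ F := by
    rintro g hg e ⟨he, heF⟩
    have hgM : g ∈ M := (zpowers_le.2 hxM) hg
    have hgx : g * x ^ 8 = x ^ 8 * g := by
      obtain ⟨k, rfl⟩ := mem_zpowers_iff.1 hg
      have : Commute (x ^ k) (x ^ 8) := ((Commute.refl x).zpow_left k).pow_right 8
      exact this
    refine ⟨hMN g hgM e he, fun h => heF ⟨he, mem_centralizer_singleton_iff.2 ?_⟩⟩
    have h1 := mem_centralizer_singleton_iff.1 h.2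
    calc e * x ^ 8 = g⁻¹ * (g * e * g⁻¹ * (g * x ^ 8)) := by group
      _ = g⁻¹ * (g * e * g⁻¹ * x ^ 8) * g := by rw [hgx]; group
      _ = g⁻¹ * (x ^ 8 * (g * e * g⁻¹)) * g := by rw [h1]
      _ = g⁻¹ * (x ^ 8 * g) * e := by group
      _ = g⁻¹ * (g * x ^ 8) * e := by rw [hgx]
      _ = x ^ 8 * e := by group
  let X := {e : T // e ∈ N ∧ e ∉ F}
  let act : MulAction (zpowers x) X :=
    { smul := fun g e => ⟨g * e * (g : T)⁻¹, hFx g g.2 e e.2⟩
      one_smul := fun e => Subtype.ext (by
        show ((1 : zpowers x) : T) * (e : T) * ((1 : zpowers x) : T)⁻¹ = e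
        simp)
      mul_smul := fun g h e => Subtype.ext (by
        show ((g * h : zpowers x) : T) * (e : T) * ((g * h : zpowers x) : T)⁻¹ =
          (g : T) * ((h : T) * (e : T) * (h : T)⁻¹) * (g : T)⁻¹
        rw [Subgroup.coe_mul]; group) }
  have hfree : ∀ b : X, MulAction.stabilizer (zpowers x) b = ⊥ := by
    intro b
    rw [Subgroup.eq_bot_iff_forall]
    intro g hg
    rw [MulAction.mem_stabilizer_iff] at hg
    have h1 : (g : T) * (b : T) * (g : T)⁻¹ = b := congrArg Subtype.val hg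
    have h2 : Commute (g : T) (b : T) := by
      show (g : T) * (b : T) = b * g
      calc (g : T) * (b : T) = (g * b * (g : T)⁻¹) * g := by group
        _ = b * g := by rw [h1]
    by_contra hg1
    apply b.2.2
    refine ⟨b.2.1, mem_centralizer_singleton_iff.2 ?_⟩
    -- `x ^ 8` is a power of `g`
    have h3 : ∃ k : ℕ, (g : T) ^ k = x ^ 8 := by
      obtain ⟨j, hj⟩ := mem_powers_iff_mem_zpowers.2 g.2
      have hj' : x ^ j = (g : T) := hj
      have hj0 : ¬ 16 ∣ j := by
        rintro ⟨i, rfl⟩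
        apply hg1
        apply Subtype.ext
        show (g : T) = 1
        rw [← hj', pow_mul, ← hx, pow_orderOf_eq_one, one_pow]
      obtain ⟨k, hk⟩ := mul_mod_sixteen (j % 16) (Nat.mod_lt _ (by norm_num)) (by omega)
      refine ⟨k, ?_⟩
      rw [← hj', ← pow_mul, ← pow_mod_orderOf, hx]
      congr 1
      rw [Nat.mul_mod, Nat.mod_mod] at hk
      rw [Nat.mul_mod, hk]
    obtain ⟨k, hk⟩ := h3
    rw [← hk]
    exact (h2.pow_left k).symm
  have h16 := card_dvd_of_free' hfree
  rw [Nat.card_zpowers, hx] at h16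
  -- the number of elements
  have hsum : Nat.card X + Nat.card F = 25 := by
    rw [← hN]
    have e1 : Nat.card N = Nat.card {e : T // (e ∈ N ∧ e ∉ F)} + Nat.card {e : T // e ∈ F} := by
      rw [← Nat.card_sum]
      refine Nat.card_congr ?_
      refine
        { toFun := fun e => if h : (e : T) ∈ F then Sum.inr ⟨e, h⟩ else Sum.inl ⟨e, e.2, h⟩
          invFun := fun e => Sum.elim (fun a => ⟨a.1, a.2.1⟩) (fun a => ⟨a.1, hFN a.2⟩) e
          left_inv := ?_
          right_inv := ?_ }
      · intro e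
        dsimp only
        split_ifs <;> rfl
      · rintro (a | a)
        · dsimp only [Sum.elim_inl]
          rw [dif_neg a.2.2]
        · dsimp only [Sum.elim_inr]
          rw [dif_pos a.2]
    exact e1.symm
  have hFd : Nat.card F ∣ 25 := by
    rw [← hN]
    exact Subgroup.card_dvd_of_le hFN
  have hFne : Nat.card F ≠ 25 := by
    intro h
    apply hFe
    exact (Subgroup.eq_of_le_of_card_ge hFN (by rw [h, hN])).ge
  have hF5 : Nat.card F = 1 ∨ Nat.card F = 5 := by
    have h25 : (25 : ℕ) = 5 ^ 2 := by norm_num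
    rw [h25] at hFd
    obtain ⟨k, hk, hk'⟩ := (Nat.dvd_prime_pow Nat.prime_five).1 hFd
    interval_cases k
    · left; rw [hk']; norm_num
    · right; rw [hk']; norm_num
    · exfalso; apply hFne; rw [hk']; norm_num
  rcases hF5 with h | h <;> omega

end TD

end Cfsg.Agent.H631.TitsD
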