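import Cfsg.Agent.H257.El.Top

/-!
# `L₃(3)`: elements of order 8 are conjugate to their cubes
-/

set_option autoImplicit false
set_option linter.unusedSectionVars false

universe u

namespace Cfsg.Agent.H631.TitsD

open Subgroup Cfsg.Agent.H257.El

/-- a group with semidihedral Sylow 2-subgroups of order 16 -/
theorem exists_cube_conj {X : Type*} [Group X] [Finite X] {m : ℕ} (hm : ¬ 2 ∣ m) (hX : Nat.card X = 16 * m) {a b : X}
    (ha : orderOf a = 8) (hb : b * b = 1) (hab : b * a * b⁻¹ = a ^ 3) {y : X} (hy : orderOf y = 8) :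
    ∃ s, s * y * s⁻¹ = y ^ 3 := by
  have : Fact (Nat.Prime 2) := ⟨Nat.prime_two⟩
  have ha8 : a ^ 8 = 1 := by rw [← ha, pow_orderOf_eq_one]
  have hconj : ∀ i : ℤ, b * a ^ i * b⁻¹ = (a ^ i) ^ 3 := by
    intro i
    rw [← conj_zpow, hab, ← zpow_natCast, ← zpow_natCast, ← zpow_mul, ← zpow_mul, mul_comm]
  have hbn : b ∈ normalizer ((zpowers a : Subgroup X) : Set X) := by
    rw [Subgroup.mem_normalizer_iff]
    have hbi : b⁻¹ = b := inv_eq_of_mul_eq_one_left hb
    have key : ∀ w ∈ zpowers a, b * w * b⁻¹ ∈ zpowers a := by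
      intro w hw
      obtain ⟨i, rfl⟩ := mem_zpowers_iff.1 hw
      rw [hconj]
      exact pow_mem (zpow_mem (mem_zpowers a) i) 3
    intro w
    refine ⟨key w, fun h => ?_⟩
    have := key _ h
    rwa [show b * (b * w * b⁻¹) * b⁻¹ = (b * b) * w * (b * b)⁻¹ by group, hb, one_mul, inv_one, mul_one] at this
  have hA : IsPGroup 2 ↥(zpowers b ⊔ zpowers a) := by
    refine IsPGroup.to_sup_of_normal_right' ?_ ?_ (by rw [zpowers_le]; exact hbn)
    · intro w
      refine ⟨1, ?_⟩
      obtain ⟨i, hi⟩ := mem_zpowers_iff.1 w.2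
      apply Subtype.ext
      show (w : X) ^ (2 ^ 1) = 1
      rw [← hi, pow_one, ← zpow_natCast, ← zpow_mul, mul_comm, zpow_mul, zpow_natCast, pow_two, hb, one_zpow]
    · exact IsPGroup.of_card (n := 3) (by rw [Nat.card_zpowers, ha]; norm_num)
  obtain ⟨P, hP⟩ := hA.exists_le_sylow
  have hP16 : Nat.card P = 16 := by
    have := Top.card_sylow_of P (a := 4) (by rw [hX]; exact ⟨m, by ring⟩) (by
      rw [hX]
      rintro ⟨c, hc⟩
      exact hm ⟨c, by omega⟩)
    rw [this]; norm_num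
  have haP : a ∈ (P : Subgroup X) := hP (Subgroup.mem_sup_right (mem_zpowers a))
  have hbP : b ∈ (P : Subgroup X) := hP (Subgroup.mem_sup_left (mem_zpowers b))
  have haP' : zpowers a ≤ (P : Subgroup X) := zpowers_le.2 haP
  have hidx : ((zpowers a).subgroupOf (P : Subgroup X)).index = 2 := by
    have h1 := Subgroup.card_mul_index ((zpowers a).subgroupOf (P : Subgroup X))
    rw [Nat.card_congr (Subgroup.subgroupOfEquivOfLe haP').toEquiv, Nat.card_zpowers, ha] at h1
    have h2 : Nat.card ↥(P : Subgroup X) = 16 := hP16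
    rw [h2] at h1
    omega
  have hba : b ∉ zpowers a := by
    intro h
    obtain ⟨i, hi⟩ := mem_zpowers_iff.1 h
    have h1 : Commute b a := by
      rw [← hi]
      exact (Commute.refl a).zpow_left i
    have h2 : a ^ 3 = a := by
      rw [← hab, h1.eq, mul_inv_cancel_right]
    have h3 : a ^ 2 = 1 := by
      have : a ^ 2 * a = 1 * a := by rw [← pow_succ, h2, one_mul]
      exact mul_right_cancel this
    have h4 := orderOf_dvd_of_pow_eq_one h3
    rw [ha] at h4
    revert h4; norm_num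
  have hyp : IsPGroup 2 (zpowers y) := IsPGroup.of_card (n := 3) (by rw [Nat.card_zpowers, hy]; norm_num)
  obtain ⟨Q, hQ⟩ := hyp.exists_le_sylow
  obtain ⟨g, hg⟩ := MulAction.exists_smul_eq X Q P
  have hyP : g * y * g⁻¹ ∈ (P : Subgroup X) := by
    rw [← hg]
    have := Subgroup.smul_mem_pointwise_smul y (MulAut.conj g) (Q : Subgroup X) (hQ (mem_zpowers y))
    exact this
  have ho : orderOf (g * y * g⁻¹) = 8 := by
    have := (MulAut.conj g).orderOf_eq y
    rw [MulAut.conj_apply] at this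
    rw [this, hy]
  have hfin : ∀ s, s * (g * y * g⁻¹) * s⁻¹ = (g * y * g⁻¹) ^ 3 → ∃ s, s * y * s⁻¹ = y ^ 3 := by
    intro s hs
    refine ⟨g⁻¹ * s * g, ?_⟩
    rw [conj_pow] at hs
    calc g⁻¹ * s * g * y * (g⁻¹ * s * g)⁻¹ = g⁻¹ * (s * (g * y * g⁻¹) * s⁻¹) * g := by group
      _ = g⁻¹ * (g * y ^ 3 * g⁻¹) * g := by rw [hs]
      _ = y ^ 3 := by group
  by_cases hya : g * y * g⁻¹ ∈ zpowers a
  · obtain ⟨i, hi⟩ := mem_zpowers_iff.1 hya
    refine hfin b ?_
    rw [← hi]
    exact hconj i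
  · exfalso
    have h1 := Subgroup.mul_mem_iff_of_index_two hidx (a := ⟨b, hbP⟩) (b := ⟨_, hyP⟩)
    have h2 : b * (g * y * g⁻¹) ∈ zpowers a := by
      have h3 : (⟨b, hbP⟩ : (P : Subgroup X)) ∉ (zpowers a).subgroupOf (P : Subgroup X) := fun h => hba h
      have h4 : (⟨_, hyP⟩ : (P : Subgroup X)) ∉ (zpowers a).subgroupOf (P : Subgroup X) := fun h => hya h
      exact h1.2 (iff_of_false h3 h4)
    obtain ⟨i, hi⟩ := mem_zpowers_iff.1 h2
    have hbi : b⁻¹ = b := inv_eq_of_mul_eq_one_left hb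
    have h3 : g * y * g⁻¹ = b * a ^ i := by
      rw [hi, ← mul_assoc, hb, one_mul]
    have h4 : (g * y * g⁻¹) ^ 2 = a ^ (4 * i) := by
      rw [h3, pow_two]
      calc b * a ^ i * (b * a ^ i) = (b * a ^ i * b⁻¹) * (b * b) * a ^ i := by group
        _ = a ^ (4 * i) := by
          rw [hconj, hb, mul_one, ← zpow_natCast, ← zpow_mul, ← zpow_add]
          congr 1
          push_cast
          ring
    have h5 : (g * y * g⁻¹) ^ 4 = 1 := by
      rw [show 4 = 2 * 2 by norm_num, pow_mul, h4, ← zpow_natCast, ← zpow_mul,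
        show (4 * i * ((2 : ℕ) : ℤ)) = ((8 : ℕ) : ℤ) * i by push_cast; ring, zpow_mul, zpow_natCast, ha8, one_zpow]
    have h6 := orderOf_dvd_of_pow_eq_one h5
    rw [ho] at h6
    revert h6; norm_num

section mat

open Matrix

variable {F : Type*} [Field F] [Fintype F]

theorem three_eq_zero (hF : Fintype.card F = 3) : (3 : F) = 0 := by
  have h := FiniteField.cast_card_eq_zero F
  rw [hF] at h
  exact_mod_cast h

/-- the element of order 8 -/
def mA (F : Type*) [Field F] : Matrix (Fin 3) (Fin 3) F := !![0, 1, 0; 1, 1, 0; 0, 0, -1]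
/-- the involution -/
def mB (F : Type*) [Field F] : Matrix (Fin 3) (Fin 3) F := !![1, 1, 0; 0, -1, 0; 0, 0, -1]
/-- a transvection -/
def mE (F : Type*) [Field F] : Matrix (Fin 3) (Fin 3) F := !![1, 0, 1; 0, 1, 0; 0, 0, 1]

theorem det_mA : (mA F).det = 1 := by
  rw [mA, Matrix.det_fin_three]; simp
theorem det_mB : (mB F).det = 1 := by
  rw [mB, Matrix.det_fin_three]; simp
theorem det_mE : (mE F).det = 1 := by
  rw [mE, Matrix.det_fin_three]; simp

theorem mA_two (h3 : (3 : F) = 0) : mA F * mA F = !![1, 1, 0; 1, -1, 0; 0, 0, 1] := by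
  have h2 : (1 : F) + 1 = -1 := by linear_combination h3
  ext i j
  fin_cases i <;> fin_cases j <;> simp [mA, Matrix.mul_apply, Fin.sum_univ_three, h2]

theorem mA_four (h3 : (3 : F) = 0) : (mA F * mA F) * (mA F * mA F) = !![-1, 0, 0; 0, -1, 0; 0, 0, 1] := by
  have h2 : (1 : F) + 1 = -1 := by linear_combination h3
  rw [mA_two h3]
  ext i j
  fin_cases i <;> fin_cases j <;> simp [Matrix.mul_apply, Fin.sum_univ_three, h2]

theorem mA_eight (h3 : (3 : F) = 0) : ((mA F * mA F) * (mA F * mA F)) * ((mA F * mA F) * (mA F * mA F)) = 1 := by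
  rw [mA_four h3]
  ext i j
  fin_cases i <;> fin_cases j <;> simp [Matrix.mul_apply, Fin.sum_univ_three]

theorem mB_two : mB F * mB F = 1 := by
  ext i j
  fin_cases i <;> fin_cases j <;> simp [mB, Matrix.mul_apply, Fin.sum_univ_three]

theorem mB_conj (h3 : (3 : F) = 0) : mB F * mA F = (mA F * mA F * mA F) * mB F := by
  have h2 : (1 : F) + 1 = -1 := by linear_combination h3
  rw [mA_two h3]
  ext i j
  fin_cases i <;> fin_cases j <;> simp [mB, mA, Matrix.mul_apply, Fin.sum_univ_three, h2]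

/-- the elements of `L₃(3)` -/
theorem exists_psl33 (hF : Fintype.card F = 3) : ∃ a b : Matrix.ProjectiveSpecialLinearGroup (Fin 3) F,
    orderOf a = 8 ∧ b * b = 1 ∧ b * a * b⁻¹ = a ^ 3 := by
  have h3 := three_eq_zero hF
  let A : SpecialLinearGroup (Fin 3) F := ⟨mA F, det_mA⟩
  let B : SpecialLinearGroup (Fin 3) F := ⟨mB F, det_mB⟩
  let E : SpecialLinearGroup (Fin 3) F := ⟨mE F, det_mE⟩
  let π : SpecialLinearGroup (Fin 3) F →* Matrix.ProjectiveSpecialLinearGroup (Fin 3) F :=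
    QuotientGroup.mk' (Subgroup.center (SpecialLinearGroup (Fin 3) F))
  have hA4 : A ^ 4 = (A * A) * (A * A) := by rw [← pow_two, ← pow_two, ← pow_mul]
  have hA8 : A ^ 8 = 1 := by
    have h1 : A ^ 8 = ((A * A) * (A * A)) * ((A * A) * (A * A)) := by rw [← hA4, ← pow_add]
    rw [h1]
    exact Subtype.ext (mA_eight h3)
  have hB : B * B = 1 := Subtype.ext mB_two
  have hBA : B * A = A ^ 3 * B := by
    have h1 : A ^ 3 = A * A * A := by rw [pow_succ, pow_two]
    rw [h1]
    exact Subtype.ext (mB_conj h3)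
  refine ⟨π A, π B, ?_, ?_, ?_⟩
  · have : Fact (Nat.Prime 2) := ⟨Nat.prime_two⟩
    have h1 : π A ^ 2 ^ (2 + 1) = 1 := by
      rw [← map_pow]
      have : A ^ 2 ^ (2 + 1) = 1 := hA8
      rw [this, map_one]
    have h2 : ¬ π A ^ 2 ^ 2 = 1 := by
      rw [← map_pow]
      intro h
      have h4 : A ^ 4 ∈ Subgroup.center (SpecialLinearGroup (Fin 3) F) := (QuotientGroup.eq_one_iff _).1 h
      have h5 := Subgroup.mem_center_iff.1 h4 E
      rw [hA4] at h5
      have h6 : mE F * ((mA F * mA F) * (mA F * mA F)) = ((mA F * mA F) * (mA F * mA F)) * mE F :=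
        congrArg Subtype.val h5
      rw [mA_four h3] at h6
      have h7 := congrFun (congrFun h6 0) 2
      simp [mE, Matrix.mul_apply, Fin.sum_univ_three] at h7
      have h8 : (1 : F) = 0 := by linear_combination h3 - h7
      exact one_ne_zero h8
    have := orderOf_eq_prime_pow h2 h1
    rw [this]; norm_num
  · rw [← map_mul, hB, map_one]
  · rw [← map_mul, hBA, map_mul, map_pow, mul_inv_cancel_right]

end mat

end Cfsg.Agent.H631.TitsD
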