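import Cfsg.Agent.H631.TitsD.Data

/-!
# The Tits group: no 2-local subgroup has order divisible by 15
-/

set_option autoImplicit false

universe u

namespace Cfsg.Agent.H631.TitsD

open Subgroup

section tools

variable {T : Type u} [Group T]

/-- the conjugation by `g` on a stable finite set -/
theorem conj_modEq [Finite T] {p : ℕ} (hp : p.Prime) {g : T} (hg : g ^ p = 1) {X : Set T}
    (hX : ∀ x ∈ X, g * x * g⁻¹ ∈ X) :
    Nat.card X ≡ Nat.card {x : T // x ∈ X ∧ g * x = x * g} [MOD p] := by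
  classical
  let f0 : X → X := fun x => ⟨g * x * g⁻¹, hX _ x.2⟩
  have hinj : Function.Injective f0 := by
    intro x y h
    have h1 : g * (x : T) * g⁻¹ = g * y * g⁻¹ := congrArg Subtype.val h
    exact Subtype.ext (mul_left_cancel (mul_right_cancel h1))
  let f : Equiv.Perm X := Equiv.ofBijective f0 (Finite.injective_iff_bijective.1 hinj)
  have hpow : ∀ n : ℕ, ∀ x : X, (((f ^ n) x : X) : T) = g ^ n * x * (g ^ n)⁻¹ := by
    intro n
    induction n with
    | zero => intro x; simp
    | succ n ih =>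
      intro x
      rw [pow_succ', Equiv.Perm.mul_apply]
      show g * ((f ^ n) x : T) * g⁻¹ = _
      rw [ih, pow_succ']
      group
  have h1 := Cfsg.Agent.H361.SelfCent.card_modEq_of_perm hp f (by
    ext x
    rw [hpow, hg]
    simp)
  refine h1.trans (congrArg (· % p) ?_)
  refine Nat.card_congr
    { toFun := fun a => ⟨a.1, a.1.2, ?_⟩
      invFun := fun b => ⟨⟨b.1, b.2.1⟩, ?_⟩
      left_inv := fun a => rfl
      right_inv := fun b => rfl }
  · have h2 : g * (a.1 : T) * g⁻¹ = a.1 := congrArg Subtype.val a.2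
    calc g * (a.1 : T) = (g * a.1 * g⁻¹) * g := by group
      _ = a.1 * g := by rw [h2]
  · apply Subtype.ext
    show g * (b.1 : T) * g⁻¹ = b.1
    rw [b.2.2, mul_inv_cancel_right]

theorem orderOf_dvd_cent {x y : T} (h : x * y = y * x) :
    orderOf x ∣ Nat.card (centralizer ({y} : Set T)) := by
  have hm : x ∈ centralizer ({y} : Set T) := mem_centralizer_singleton_iff.2 h
  rw [← Subgroup.orderOf_mk x hm]
  exact orderOf_dvd_natCard _

/-- a subgroup centralised by `g` -/
theorem card_dvd_cent {g : T} {E : Subgroup T} (h : ∀ e ∈ E, g * e = e * g) :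
    Nat.card E ∣ Nat.card (centralizer ({g} : Set T)) :=
  Subgroup.card_dvd_of_le fun e he => mem_centralizer_singleton_iff.2 (h e he).symm

/-- commuting pairs in an elementary abelian 2-group -/
theorem comm_of_sq {B : Subgroup T} (hsq : ∀ a ∈ B, a * a = 1) : ∀ a ∈ B, ∀ b ∈ B, a * b = b * a := by
  intro a ha b hb
  have h1 := hsq _ (mul_mem ha hb)
  calc a * b = a * (a * b * (a * b)) * b := by rw [h1, mul_one]
    _ = (a * a) * (b * a) * (b * b) := by group
    _ = b * a := by rw [hsq a ha, hsq b hb, one_mul, mul_one]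

theorem isPGroup_of_sq {B : Subgroup T} (hsq : ∀ a ∈ B, a * a = 1) : IsPGroup 2 B := by
  intro a
  refine ⟨1, ?_⟩
  rw [pow_one, pow_two]
  exact Subtype.ext (hsq a a.2)

/-- a subgroup generated by commuting involutions -/
theorem sq_closure {O : Set T} (h2 : ∀ a ∈ O, a * a = 1) (hc : ∀ a ∈ O, ∀ b ∈ O, a * b = b * a) :
    ∀ a ∈ closure O, a * a = 1 := by
  have hcomm : ∀ a ∈ closure O, ∀ b ∈ closure O, a * b = b * a := by
    have := Subgroup.isMulCommutative_closure (k := O) (fun a ha b hb => hc a ha b hb)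
    intro a ha b hb
    exact congrArg Subtype.val (this.is_comm.comm ⟨a, ha⟩ ⟨b, hb⟩)
  intro a ha
  induction ha using Subgroup.closure_induction with
  | mem x hx => exact h2 x hx
  | one => simp
  | mul x y hx hy ihx ihy =>
    calc x * y * (x * y) = x * (y * x) * y := by group
      _ = x * (x * y) * y := by rw [hcomm y hy x hx]
      _ = (x * x) * (y * y) := by group
      _ = 1 := by rw [ihx, ihy, one_mul]
  | inv x hx ih =>
    rw [← mul_inv_rev, ih, inv_one]

end tools

namespace TD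

variable {T : Type u} [Group T] [Finite T] (D : TD T)

include D

/-- an elementary abelian 2-group centralised by an element of order 5 -/
theorem card_five {y : T} (hy : orderOf y = 5) {E : Subgroup T} (h2 : IsPGroup 2 E)
    (h : ∀ e ∈ E, y * e = e * y) : Nat.card E = 1 ∨ Nat.card E = 2 := by
  have : Fact (Nat.Prime 2) := ⟨Nat.prime_two⟩
  have h1 := card_dvd_cent h
  rw [D.c5 y hy] at h1
  obtain ⟨n, hn⟩ := IsPGroup.iff_card.1 h2
  rw [hn] at h1 ⊢
  rcases n with _ | _ | n
  · exact Or.inl rfl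
  · exact Or.inr rfl
  · exfalso
    have h3 : 4 ∣ 50 := (Dvd.intro_left (2 ^ n) (by ring)).trans h1
    revert h3; norm_num

/-- the order of a normal elementary abelian 2-subgroup modulo 5 -/
theorem card_mod_five {y : T} (hy : orderOf y = 5) {E : Subgroup T} (h2 : IsPGroup 2 E)
    (hyE : ∀ e ∈ E, y * e * y⁻¹ ∈ E) : Nat.card E ≡ 1 [MOD 5] ∨ Nat.card E ≡ 2 [MOD 5] := by
  have h1 := conj_modEq (X := (E : Set T)) (by norm_num : Nat.Prime 5) (g := y)
    (by rw [← hy, pow_orderOf_eq_one]) hyE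
  have e1 : Nat.card (E : Set T) = Nat.card E := rfl
  rw [e1] at h1
  have h3 : Nat.card {x : T // x ∈ (E : Set T) ∧ y * x = x * y} =
      Nat.card (E ⊓ centralizer ({y} : Set T) : Subgroup T) :=
    Nat.card_congr (Equiv.subtypeEquivRight fun x => by
      rw [Subgroup.mem_inf, mem_centralizer_singleton_iff, eq_comm (a := y * x)]
      rfl)
  rw [h3] at h1
  rcases D.card_five hy (E := E ⊓ centralizer ({y} : Set T)) (h2.to_le inf_le_left)
    (fun e he => (mem_centralizer_singleton_iff.1 he.2).symm) with h4 | h4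
  · rw [h4] at h1; exact Or.inl h1
  · rw [h4] at h1; exact Or.inr h1

/-- a nontrivial 2-group normalised by elements of orders 3 and 5 has at least 16 elements -/
theorem sixteen_le {t y : T} (ht : orderOf t = 3) (hy : orderOf y = 5) {E : Subgroup T} (h2 : IsPGroup 2 E)
    (hE : E ≠ ⊥) (htE : ∀ e ∈ E, t * e * t⁻¹ ∈ E) (hyE : ∀ e ∈ E, y * e * y⁻¹ ∈ E) : 16 ∣ Nat.card E := by
  have : Fact (Nat.Prime 2) := ⟨Nat.prime_two⟩
  have h1 := D.card_mod_five hy h2 hyE
  obtain ⟨n, hn⟩ := IsPGroup.iff_card.1 h2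
  have hn0 : n ≠ 0 := by
    rintro rfl
    exact hE (Subgroup.card_eq_one.1 (by rw [hn, pow_zero]))
  rw [hn] at h1 ⊢
  have hn1 : n ≠ 1 := by
    rintro rfl
    rw [pow_one] at hn
    -- the involution
    obtain ⟨n, hnE⟩ : ∃ n : E, n ≠ 1 := by
      by_contra hc
      push Not at hc
      exact hE ((Subgroup.eq_bot_iff_forall _).2 fun x hx => congrArg Subtype.val (hc ⟨x, hx⟩))
    have huniq : ∀ m ∈ E, m ≠ 1 → m = n := by
      classical
      intro m hm hm1
      by_contra hne
      have h3 : ({⟨1, E.one_mem⟩, n, ⟨m, hm⟩} : Finset E).card = 3 := by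
        rw [Finset.card_eq_three]
        exact ⟨_, _, _, fun h => hnE h.symm, fun h => hm1 (congrArg Subtype.val h).symm,
          fun h => hne (congrArg Subtype.val h).symm, rfl⟩
      have := Fintype.ofFinite E
      have h4 := Finset.card_le_univ ({⟨1, E.one_mem⟩, n, ⟨m, hm⟩} : Finset E)
      rw [h3, ← Nat.card_eq_fintype_card, hn] at h4
      omega
    have hn1 : (n : T) ≠ 1 := fun h => hnE (Subtype.ext h)
    have hno : orderOf (n : T) = 2 := by
      refine orderOf_eq_prime ?_ hn1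
      have h3 : n ^ 2 = 1 := by rw [← hn, pow_card_eq_one']
      exact congrArg Subtype.val h3
    have hfix : ∀ g : T, (∀ e ∈ E, g * e * g⁻¹ ∈ E) → g * n = n * g := by
      intro g hg
      have h3 := huniq _ (hg n n.2) (fun h => hn1 (conj_eq_one_iff.1 h))
      calc g * (n : T) = (g * n * g⁻¹) * g := by group
        _ = n * g := by rw [h3]
    obtain ⟨z, d, I⟩ := D.inv
    rcases I.cases _ hno with h3 | h3
    · obtain ⟨c, hc⟩ := isConj_iff.1 h3
      refine I.z3 (c * t * c⁻¹) ?_ ?_
      · have := (MulAut.conj c).orderOf_eq t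
        rw [MulAut.conj_apply] at this
        rw [this, ht]
      · rw [← hc]
        have := hfix t htE
        calc c * (n : T) * c⁻¹ * (c * t * c⁻¹) = c * (n * t) * c⁻¹ := by group
          _ = c * (t * n) * c⁻¹ := by rw [this]
          _ = _ := by group
    · obtain ⟨c, hc⟩ := isConj_iff.1 h3
      refine I.d5 (c * y * c⁻¹) ?_ ?_
      · have := (MulAut.conj c).orderOf_eq y
        rw [MulAut.conj_apply] at this
        rw [this, hy]
      · rw [← hc]
        have := hfix y hyE
        calc c * (n : T) * c⁻¹ * (c * y * c⁻¹) = c * (n * y) * c⁻¹ := by group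
          _ = c * (y * n) * c⁻¹ := by rw [this]
          _ = _ := by group
  have hn2 : n ≠ 2 := by
    rintro rfl
    rcases h1 with h1 | h1 <;> revert h1 <;> decide
  have hn3 : n ≠ 3 := by
    rintro rfl
    rcases h1 with h1 | h1 <;> revert h1 <;> decide
  have : (16 : ℕ) = 2 ^ 4 := by norm_num
  rw [this]
  exact Nat.pow_dvd_pow 2 (by omega)

/-- a subgroup centralising 16 commuting involutions is a 2-group -/
theorem cent_two {E : Subgroup T} (hE : 16 ∣ Nat.card E) : IsPGroup 2 (centralizer (E : Set T)) := by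
  have : Fact (Nat.Prime 2) := ⟨Nat.prime_two⟩
  rw [IsPGroup.iff_card]
  have h0 : Nat.card (centralizer (E : Set T)) ≠ 0 := Nat.card_pos.ne'
  refine ⟨(Nat.card (centralizer (E : Set T))).primeFactorsList.length, ?_⟩
  apply Nat.eq_prime_pow_of_unique_prime_dvd h0
  intro p hp hpd
  by_contra hp2
  have := Fact.mk hp
  obtain ⟨x, hx⟩ := exists_prime_orderOf_dvd_card' p hpd
  have hpT : p ∣ 17971200 := by
    rw [← D.card]
    exact hpd.trans (Subgroup.card_subgroup_dvd_card _)
  have hx' : orderOf (x : T) = p := by rw [Subgroup.orderOf_coe, hx]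
  have hcomm : ∀ e ∈ E, (x : T) * e = e * x := fun e he => (mem_centralizer_iff.1 x.2 e he).symm
  have hc := hE.trans (card_dvd_cent hcomm)
  have h5 : (17971200 : ℕ) = 2 ^ 11 * (3 ^ 3 * (5 ^ 2 * 13)) := by norm_num
  rw [h5] at hpT
  rcases (hp.dvd_mul).1 hpT with h | h
  · exact hp2 ((Nat.prime_dvd_prime_iff_eq hp Nat.prime_two).1 (hp.dvd_of_dvd_pow h))
  rcases (hp.dvd_mul).1 h with h | h
  · have h3 := (Nat.prime_dvd_prime_iff_eq hp Nat.prime_three).1 (hp.dvd_of_dvd_pow h)
    rw [h3] at hx'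
    rw [D.c3 _ hx'] at hc
    revert hc; norm_num
  rcases (hp.dvd_mul).1 h with h | h
  · have h3 := (Nat.prime_dvd_prime_iff_eq hp Nat.prime_five).1 (hp.dvd_of_dvd_pow h)
    rw [h3] at hx'
    rw [D.c5 _ hx'] at hc
    revert hc; norm_num
  · have h3 := (Nat.prime_dvd_prime_iff_eq hp (by norm_num : Nat.Prime 13)).1 h
    rw [h3] at hx'
    rw [D.c13 _ hx'] at hc
    revert hc; norm_num

omit D [Finite T] in
/-- the involutions in the centre of `N` -/
theorem exists_omega [Finite T] {N : Subgroup T} (h2 : IsPGroup 2 N) (hN : N ≠ ⊥) :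
    ∃ E : Subgroup T, E ≠ ⊥ ∧ E ≤ N ∧ (∀ a ∈ E, a * a = 1) ∧ normalizer (N : Set T) ≤ normalizer (E : Set T) := by
  have : Fact (Nat.Prime 2) := ⟨Nat.prime_two⟩
  let E : Subgroup T :=
    { carrier := {a | a ∈ N ∧ (∀ b ∈ N, a * b = b * a) ∧ a * a = 1}
      mul_mem' := by
        rintro a b ⟨ha, ha1, ha2⟩ ⟨hb, hb1, hb2⟩
        refine ⟨N.mul_mem ha hb, fun c hc => ?_, ?_⟩
        · rw [mul_assoc, hb1 c hc, ← mul_assoc, ha1 c hc, mul_assoc]
        · calc a * b * (a * b) = a * (b * a) * b := by group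
            _ = a * (a * b) * b := by rw [ha1 b hb]
            _ = (a * a) * (b * b) := by group
            _ = 1 := by rw [ha2, hb2, one_mul]
      one_mem' := ⟨N.one_mem, fun b _ => by rw [one_mul, mul_one], one_mul 1⟩
      inv_mem' := by
        rintro a ⟨ha, ha1, ha2⟩
        refine ⟨N.inv_mem ha, fun b hb => ?_, by rw [← mul_inv_rev, ha2, inv_one]⟩
        calc a⁻¹ * b = a⁻¹ * (b * a) * a⁻¹ := by group
          _ = a⁻¹ * (a * b) * a⁻¹ := by rw [ha1 b hb]
          _ = b * a⁻¹ := by group }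
  refine ⟨E, ?_, fun a ha => ha.1, fun a ha => ha.2.2, ?_⟩
  · have hnt : Nontrivial N := (Subgroup.nontrivial_iff_ne_bot N).2 hN
    have hc := h2.center_nontrivial
    have hcp : IsPGroup 2 (center N) := h2.to_subgroup _
    obtain ⟨c, hc1⟩ := exists_ne (1 : center N)
    obtain ⟨k, hk⟩ := IsPGroup.iff_card.1 hcp
    have hk0 : k ≠ 0 := by
      rintro rfl
      rw [pow_zero] at hk
      exact hc1 (Subsingleton.elim (h := (Nat.card_eq_one_iff_unique.1 hk).1) _ _)
    obtain ⟨a, ha⟩ := exists_prime_orderOf_dvd_card' (G := center N) 2 (by rw [hk]; exact dvd_pow_self 2 hk0)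
    intro hb
    have h3 : a * a = 1 := by rw [← pow_two, ← ha, pow_orderOf_eq_one]
    have h4 : ((a : N) : T) ∈ E := by
      refine ⟨(a : N).2, fun b hb => ?_, ?_⟩
      · exact congrArg Subtype.val (Subgroup.mem_center_iff.1 a.2 ⟨b, hb⟩).symm
      · exact congrArg (fun x : center N => ((x : N) : T)) h3
    rw [hb, Subgroup.mem_bot] at h4
    have h5 : a = 1 := Subtype.ext (Subtype.ext h4)
    rw [h5, orderOf_one] at ha
    exact absurd ha (by norm_num)
  · intro g hg
    have key : ∀ g ∈ normalizer (N : Set T), ∀ a ∈ E, g * a * g⁻¹ ∈ E := by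
      rintro g hg a ⟨ha, ha1, ha2⟩
      refine ⟨(Subgroup.mem_normalizer_iff.1 hg a).1 ha, fun b hb => ?_, ?_⟩
      · have h3 : g⁻¹ * b * g ∈ N := by
          have := (Subgroup.mem_normalizer_iff.1 (inv_mem hg) b).1 hb
          rwa [inv_inv] at this
        calc g * a * g⁻¹ * b = g * (a * (g⁻¹ * b * g)) * g⁻¹ := by group
          _ = g * (g⁻¹ * b * g * a) * g⁻¹ := by rw [ha1 _ h3]
          _ = b * (g * a * g⁻¹) := by group
      · calc g * a * g⁻¹ * (g * a * g⁻¹) = g * (a * a) * g⁻¹ := by group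
          _ = 1 := by rw [ha2, mul_one, mul_inv_cancel]
    rw [Subgroup.mem_normalizer_iff]
    intro a
    refine ⟨key g hg a, fun h => ?_⟩
    have := key g⁻¹ (inv_mem hg) _ h
    rwa [show g⁻¹ * (g * a * g⁻¹) * g⁻¹⁻¹ = a by group] at this

/-- **no nontrivial 2-subgroup is normalised by elements of orders 3 and 5** -/
theorem no_local {t y : T} (ht : orderOf t = 3) (hy : orderOf y = 5) {N : Subgroup T} (h2 : IsPGroup 2 N)
    (hN : N ≠ ⊥) (htN : t ∈ normalizer (N : Set T)) (hyN : y ∈ normalizer (N : Set T)) : False := by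
  classical
  have : Fact (Nat.Prime 2) := ⟨Nat.prime_two⟩
  obtain ⟨E, hE, hEN, hsq, hnor⟩ := exists_omega h2 hN
  have htE := hnor htN
  have hyE := hnor hyN
  have hE2 : IsPGroup 2 E := isPGroup_of_sq hsq
  have h16 := D.sixteen_le ht hy hE2 hE (fun e he => (Subgroup.mem_normalizer_iff.1 htE e).1 he)
    (fun e he => (Subgroup.mem_normalizer_iff.1 hyE e).1 he)
  have hC2 := D.cent_two h16
  obtain ⟨z, d, I⟩ := D.inv
  -- a Sylow 2-subgroup of the normalizer containing the centralizer
  have hCM : centralizer (E : Set T) ≤ normalizer (E : Set T) := Subgroup.centralizer_le_normalizer _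
  have hC2' : IsPGroup 2 ((centralizer (E : Set T)).subgroupOf (normalizer (E : Set T))) :=
    hC2.comap_of_injective _ (Subgroup.subtype_injective _)
  obtain ⟨P, hP⟩ := hC2'.exists_le_sylow
  obtain ⟨c, hcz, hc⟩ := I.syl (P.1.map (normalizer (E : Set T)).subtype) (P.2.map _)
  have hcC : ∀ s ∈ centralizer (E : Set T), c * s = s * c := by
    intro s hs
    refine hc s ⟨⟨s, hCM hs⟩, hP ?_, rfl⟩
    exact hs
  have hEC : E ≤ centralizer (E : Set T) := by
    intro e he
    rw [mem_centralizer_iff]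
    intro f hf
    exact comm_of_sq hsq f hf e he
  have hcE : c ∈ centralizer (E : Set T) := by
    rw [mem_centralizer_iff]
    intro f hf
    exact (hcC f (hEC hf)).symm
  -- the centralizer is normalised
  have hCn : ∀ g ∈ normalizer (E : Set T), ∀ s ∈ centralizer (E : Set T), g * s * g⁻¹ ∈ centralizer (E : Set T) := by
    intro g hg s hs
    rw [mem_centralizer_iff]
    intro f hf
    have h3 : g⁻¹ * f * g ∈ E := by
      have := (Subgroup.mem_normalizer_iff.1 (inv_mem hg) f).1 hf
      rwa [inv_inv] at this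
    have h4 := mem_centralizer_iff.1 hs _ h3
    calc f * (g * s * g⁻¹) = g * (g⁻¹ * f * g * s) * g⁻¹ := by group
      _ = g * (s * (g⁻¹ * f * g)) * g⁻¹ := by rw [h4]
      _ = g * s * g⁻¹ * f := by group
  -- the orbit
  let act : MulAction ↥(normalizer (E : Set T)) T :=
    MulAction.compHom T ((MulAut.conj : T →* MulAut T).comp (normalizer (E : Set T)).subtype)
  have hsm : ∀ (g : ↥(normalizer (E : Set T))) (x : T), g • x = (g : T) * x * (g : T)⁻¹ := fun g x => rfl
  let O : Set T := MulAction.orbit ↥(normalizer (E : Set T)) c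
  have hO : ∀ a ∈ O, ∃ g ∈ normalizer (E : Set T), g * c * g⁻¹ = a := by
    rintro _ ⟨g, rfl⟩
    exact ⟨g, g.2, rfl⟩
  have hOz : ∀ a ∈ O, IsConj a z := by
    intro a ha
    obtain ⟨g, -, rfl⟩ := hO a ha
    exact (isConj_iff.2 ⟨g⁻¹, by group⟩ : IsConj (g * c * g⁻¹) c).trans hcz
  have hOC : ∀ a ∈ O, a ∈ centralizer (E : Set T) := by
    intro a ha
    obtain ⟨g, hg, rfl⟩ := hO a ha
    exact hCn g hg c hcE
  have hOc : ∀ a ∈ O, ∀ s ∈ centralizer (E : Set T), a * s = s * a := by
    intro a ha s hs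
    obtain ⟨g, hg, rfl⟩ := hO a ha
    have h3 := hCn g⁻¹ (inv_mem hg) s hs
    rw [inv_inv] at h3
    have h4 := hcC _ h3
    calc g * c * g⁻¹ * s = g * (c * (g⁻¹ * s * g)) * g⁻¹ := by group
      _ = g * (g⁻¹ * s * g * c) * g⁻¹ := by rw [h4]
      _ = s * (g * c * g⁻¹) := by group
  have hO2 : ∀ a ∈ O, orderOf a = 2 := by
    intro a ha
    obtain ⟨k, hk⟩ := isConj_iff.1 (hOz a ha)
    have := (MulAut.conj k).orderOf_eq a
    rw [MulAut.conj_apply, hk, I.oz] at this
    exact this.symm
  have hOsq : ∀ a ∈ O, a * a = 1 := fun a ha => by rw [← pow_two, ← hO2 a ha, pow_orderOf_eq_one]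
  have hB := sq_closure hOsq (fun a ha b hb => hOc a ha b (hOC b hb))
  have hcard : Nat.card O ≤ 11 := by
    have h3 := I.few (closure O) hB O.toFinite.toFinset (fun a ha => by
      rw [Set.Finite.mem_toFinset] at ha
      exact ⟨subset_closure ha, hOz a ha⟩)
    rwa [← Set.ncard_eq_toFinset_card O O.toFinite, ← Nat.card_coe_set_eq] at h3
  have hodd : ¬ 2 ∣ Nat.card O := by
    intro h3
    have h4 := MulAction.index_stabilizer ↥(normalizer (E : Set T)) c
    have h5 : P.1 ≤ MulAction.stabilizer ↥(normalizer (E : Set T)) c := by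
      intro g hg
      rw [MulAction.mem_stabilizer_iff, hsm, ← hc g ⟨g, hg, rfl⟩, mul_inv_cancel_right]
    have h6 := Subgroup.index_dvd_of_le h5
    rw [h4, ← Nat.card_coe_set_eq] at h6
    exact P.not_dvd_index (h3.trans h6)
  have hst : ∀ g ∈ normalizer (E : Set T), ∀ x ∈ O, g * x * g⁻¹ ∈ O := by
    rintro g hg _ ⟨k, rfl⟩
    refine ⟨⟨g, hg⟩ * k, ?_⟩
    show (g * (k : T)) * c * (g * (k : T))⁻¹ = g * ((k : T) * c * (k : T)⁻¹) * g⁻¹
    group
  have hne : 0 < Nat.card O := by
    have : Nonempty O := ⟨⟨c, MulAction.mem_orbit_self c⟩⟩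
    exact Nat.card_pos
  -- modulo 3
  have h3 := conj_modEq (X := O) Nat.prime_three (g := t) (by rw [← ht, pow_orderOf_eq_one]) (hst t htE)
  have h3e : Nat.card {x : T // x ∈ O ∧ t * x = x * t} = 0 := by
    rw [Nat.card_eq_zero]
    left
    refine ⟨fun x => ?_⟩
    obtain ⟨k, hk⟩ := isConj_iff.1 (hOz x x.2.1)
    refine I.z3 (k * t * k⁻¹) ?_ ?_
    · have := (MulAut.conj k).orderOf_eq t
      rw [MulAut.conj_apply] at this
      rw [this, ht]
    · rw [← hk]
      calc k * (x : T) * k⁻¹ * (k * t * k⁻¹) = k * (x * t) * k⁻¹ := by group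
        _ = k * (t * x) * k⁻¹ := by rw [x.2.2]
        _ = _ := by group
  rw [h3e] at h3
  -- modulo 5
  have h5 := conj_modEq (X := O) Nat.prime_five (g := y) (by rw [← hy, pow_orderOf_eq_one]) (hst y hyE)
  have h5e : Nat.card {x : T // x ∈ O ∧ y * x = x * y} ≤ 1 := by
    have h6 := D.card_five hy (E := closure O ⊓ centralizer ({y} : Set T))
      ((isPGroup_of_sq hB).to_le inf_le_left) (fun e he => (mem_centralizer_singleton_iff.1 he.2).symm)
    have h7 : Nat.card (closure O ⊓ centralizer ({y} : Set T) : Subgroup T) ≤ 2 := by omega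
    by_contra hcon
    rw [not_le] at hcon
    have : Nontrivial {x : T // x ∈ O ∧ y * x = x * y} := Finite.one_lt_card_iff_nontrivial.1 hcon
    obtain ⟨a, b, hab⟩ := exists_pair_ne {x : T // x ∈ O ∧ y * x = x * y}
    have ha : (a : T) ∈ closure O ⊓ centralizer ({y} : Set T) :=
      ⟨subset_closure a.2.1, mem_centralizer_singleton_iff.2 a.2.2.symm⟩
    have hb : (b : T) ∈ closure O ⊓ centralizer ({y} : Set T) :=
      ⟨subset_closure b.2.1, mem_centralizer_singleton_iff.2 b.2.2.symm⟩
    have ha1 : (a : T) ≠ 1 := fun h => by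
      have := hO2 _ a.2.1
      rw [h, orderOf_one] at this
      exact absurd this (by norm_num)
    have hb1 : (b : T) ≠ 1 := fun h => by
      have := hO2 _ b.2.1
      rw [h, orderOf_one] at this
      exact absurd this (by norm_num)
    have h8 : ({1, ⟨a, ha⟩, ⟨b, hb⟩} : Finset ↥(closure O ⊓ centralizer ({y} : Set T))).card = 3 := by
      rw [Finset.card_eq_three]
      exact ⟨_, _, _, fun h => ha1 (congrArg Subtype.val h).symm, fun h => hb1 (congrArg Subtype.val h).symm,
        fun h => hab (Subtype.ext (Subtype.mk.inj h)), rfl⟩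
    have := Fintype.ofFinite ↥(closure O ⊓ centralizer ({y} : Set T))
    have h9 := Finset.card_le_univ ({1, ⟨a, ha⟩, ⟨b, hb⟩} : Finset ↥(closure O ⊓ centralizer ({y} : Set T)))
    rw [h8, ← Nat.card_eq_fintype_card] at h9
    omega
  have key : ∀ n k : ℕ, n ≤ 11 → ¬ 2 ∣ n → 0 < n → n % 3 = 0 % 3 → n % 5 = k % 5 → k ≤ 1 → False := by
    intro n k h1 h2 h3 h4 h5 h6
    interval_cases k <;> interval_cases n <;> omega
  exact key _ _ hcard hodd hne h3 h5 h5e

end TD

end Cfsg.Agent.H631.TitsD
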