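import Cfsg.Agent.H631.TitsD.Five

/-!
# The Tits group: subgroups of order divisible by 15 but not by 13 have no elements of order 16
-/

set_option autoImplicit false
set_option linter.unusedSectionVars false
set_option maxRecDepth 100000

universe u

namespace Cfsg.Agent.H631.TitsD

open Subgroup Cfsg.Agent.OrdDiv Cfsg.Agent.H257.El
open scoped Pointwise

/-- a permutation of less than 16 points -/
theorem perm_pow_eight {α : Type*} [Finite α] (h : Nat.card α < 16) {σ : Equiv.Perm α} (hσ : σ ^ 16 = 1) :
    σ ^ 8 = 1 := by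
  classical
  have := Fintype.ofFinite α
  have h1 : orderOf σ ∣ 16 := orderOf_dvd_of_pow_eq_one hσ
  apply orderOf_dvd_iff_pow_eq_one.1
  rw [← Equiv.Perm.lcm_cycleType, Multiset.lcm_dvd]
  intro n hn
  have h2 : n ∣ 16 := (Equiv.Perm.dvd_of_mem_cycleType hn).trans h1
  have h3 : n ≤ σ.support.card := Equiv.Perm.le_card_support_of_mem_cycleType hn
  have h4 : σ.support.card ≤ Fintype.card α := Finset.card_le_univ _
  rw [← Nat.card_eq_fintype_card] at h4
  have h16 : (16 : ℕ) = 2 ^ 4 := by norm_num
  rw [h16] at h2
  obtain ⟨k, hk, rfl⟩ := (Nat.dvd_prime_pow Nat.prime_two).1 h2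
  have hk3 : k ≤ 3 := by
    by_contra hk3
    have : k = 4 := by omega
    subst this
    omega
  exact pow_dvd_pow 2 hk3

/-- the number of Sylow 3-subgroups of a simple group of order 60 or 360 -/
theorem card_sylow_three {N : Type u} [Group N] [Finite N] (hs : IsSimpleGroup N)
    (hc : Nat.card N = 60 ∨ Nat.card N = 360) : Nat.card (Sylow 3 N) < 16 := by
  have : Fact (Nat.Prime 3) := ⟨Nat.prime_three⟩
  obtain ⟨P⟩ : Nonempty (Sylow 3 N) := inferInstance
  have h1 := card_sylow_modEq_one 3 N
  have h1' : Nat.card (Sylow 3 N) % 3 = 1 := h1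
  have h2 : Nat.card (Sylow 3 N) ∣ (P : Subgroup N).index := P.card_dvd_index
  have h3 := Subgroup.card_mul_index (P : Subgroup N)
  have h4 := P.card_eq_multiplicity
  rcases hc with hc | hc
  · have hP : Nat.card P = 3 := by
      have := Top.card_sylow_of P (a := 1) (by rw [hc]; norm_num) (by rw [hc]; norm_num)
      rwa [pow_one] at this
    have h5 : (P : Subgroup N).index = 20 := by
      rw [hc] at h3
      have : Nat.card (P : Subgroup N) = 3 := hP
      rw [this] at h3
      omega
    rw [h5] at h2
    have h6 : Nat.card (Sylow 3 N) ≤ 20 := Nat.le_of_dvd (by norm_num) h2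
    generalize Nat.card (Sylow 3 N) = n at *
    interval_cases n <;> omega
  · have hP : Nat.card P = 9 := by
      have := Top.card_sylow_of P (a := 2) (by rw [hc]; norm_num) (by rw [hc]; norm_num)
      rw [this]; norm_num
    have hP' : Nat.card (P : Subgroup N) = 9 := hP
    have h5 : (P : Subgroup N).index = 40 := by
      rw [hc] at h3
      rw [hP'] at h3
      omega
    rw [h5] at h2
    have h6 : Nat.card (Sylow 3 N) ≤ 40 := Nat.le_of_dvd (by norm_num) h2
    have h40 : Nat.card (Sylow 3 N) ≠ 40 := by
      intro h40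
      have h7 : Nat.card (Sylow 3 N) = (normalizer ((P : Subgroup N) : Set N)).index := P.card_eq_index_normalizer
      rw [h40] at h7
      have h8 := Subgroup.card_mul_index (normalizer ((P : Subgroup N) : Set N))
      rw [← h7, hc] at h8
      have h9 : (P : Subgroup N) = normalizer ((P : Subgroup N) : Set N) := by
        apply Subgroup.eq_of_le_of_card_ge Subgroup.le_normalizer
        omega
      have hcomm := IsPGroup.isMulCommutative_of_card_eq_prime_sq (G := P) (p := 3) (by rw [hP]; norm_num)
      have h10 : normalizer ((P : Subgroup N) : Set N) ≤ centralizer ((P : Subgroup N) : Set N) := by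
        rw [← h9]
        intro a ha
        rw [mem_centralizer_iff]
        intro b hb
        exact congrArg Subtype.val (hcomm.is_comm.comm ⟨b, hb⟩ ⟨a, ha⟩)
      have h11 := MonoidHom.ker_transferSylow_isComplement' P h10
      have h12 := h11.card_mul_card
      rw [hP', hc] at h12
      rcases hs.eq_bot_or_eq_top_of_normal (MonoidHom.transferSylow P h10).ker inferInstance with h13 | h13
      · rw [h13, Subgroup.card_bot] at h12
        omega
      · rw [h13, Subgroup.card_top, hc] at h12
        omega
    generalize Nat.card (Sylow 3 N) = n at *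
    by_contra hcon
    interval_cases n <;> omega

section act

variable {G : Type u} [Group G] [Finite G]

/-- the eighth power of an element of order 16 centralises a normal simple subgroup of order 60 or 360 -/
theorem pow_eight_comm {N : Subgroup G} [N.Normal] (hs : IsSimpleGroup N) (hc : Nat.card N = 60 ∨ Nat.card N = 360)
    {x : G} (hx : x ^ 16 = 1) : ∀ n ∈ N, x ^ 8 * n = n * x ^ 8 := by
  have : Fact (Nat.Prime 3) := ⟨Nat.prime_three⟩
  let f : G →* Equiv.Perm (Sylow 3 N) := (MulAction.toPermHom (MulAut N) (Sylow 3 N)).comp MulAut.conjNormal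
  have h1 : f (x ^ 8) = 1 := by
    rw [map_pow]
    exact perm_pow_eight (card_sylow_three hs hc) (by rw [← map_pow, hx, map_one])
  have hK : x ^ 8 ∈ f.ker := h1
  have hKN : f.ker ⊓ N = ⊥ := by
    rcases hs.eq_bot_or_eq_top_of_normal (f.ker.subgroupOf N) inferInstance with h2 | h2
    · rw [Subgroup.subgroupOf_eq_bot] at h2
      exact disjoint_iff.1 h2
    · exfalso
      rw [Subgroup.subgroupOf_eq_top] at h2
      obtain ⟨P⟩ : Nonempty (Sylow 3 N) := inferInstance
      have hPn : (P : Subgroup N).Normal := by
        refine ⟨fun a ha n => ?_⟩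
        have h3 : f n = 1 := h2 n.2
        have h4 : (f n) P = P := by rw [h3]; rfl
        have h5 : (MulAut.conjNormal (n : G) : MulAut N) • P = P := h4
        have h6 : ((MulAut.conjNormal (n : G) : MulAut N) • (P : Subgroup N)) = (P : Subgroup N) :=
          congrArg (fun Q : Sylow 3 N => (Q : Subgroup N)) h5
        rw [← h6]
        have h7 := Subgroup.smul_mem_pointwise_smul a (MulAut.conjNormal (n : G) : MulAut N) (P : Subgroup N) ha
        have h8 : (MulAut.conjNormal (n : G) : MulAut N) • a = n * a * n⁻¹ := Subtype.ext (by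
          show ((MulAut.conjNormal (n : G) : MulAut N) a : G) = _
          rw [MulAut.conjNormal_apply]
          rfl)
        rwa [h8] at h7
      have h3 : 3 ∣ Nat.card P := by
        have h9 : 3 ^ 1 ∣ Nat.card N := by
          rcases hc with hc | hc <;> rw [hc] <;> norm_num
        have := P.pow_dvd_card_of_pow_dvd_card h9
        rwa [pow_one] at this
      have h3' : 3 ∣ Nat.card (P : Subgroup N) := h3
      rcases hs.eq_bot_or_eq_top_of_normal (P : Subgroup N) hPn with h4 | h4
      · rw [h4, Subgroup.card_bot] at h3'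
        revert h3'; norm_num
      · have h5 := P.isPGroup'
        have h6 : IsPGroup 3 (P : Subgroup N) := h5
        obtain ⟨k, hk⟩ := IsPGroup.iff_card.1 h6
        rw [h4, Subgroup.card_top] at hk
        have h7 : 2 ∣ 3 ^ k := by
          rw [← hk]
          rcases hc with hc | hc <;> rw [hc] <;> norm_num
        have h8 := Nat.prime_two.dvd_of_dvd_pow h7
        revert h8; norm_num
  intro n hn
  have h3 := Subgroup.commute_of_normal_of_disjoint f.ker N inferInstance inferInstance (disjoint_iff.2 hKN) (x ^ 8) n hK hn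
  exact h3

end act

theorem orderOf_single {ι : Type*} [DecidableEq ι] {G : Type*} [Group G] (i : ι) (a : G) :
    orderOf (Pi.mulSingle i a : ι → G) = orderOf a := by
  refine orderOf_injective (MonoidHom.mulSingle (fun _ : ι => G) i) (fun x y h => ?_) a
  have h1 := congrFun h i
  simpa using h1

theorem le_normalizer_of {G : Type*} [Group G] {M N : Subgroup G} (h : ∀ m ∈ M, ∀ a ∈ N, m * a * m⁻¹ ∈ N) :
    M ≤ normalizer (N : Set G) := by
  intro m hm
  rw [Subgroup.mem_normalizer_iff]
  intro a
  refine ⟨h m hm a, fun ha => ?_⟩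
  have := h m⁻¹ (M.inv_mem hm) _ ha
  rwa [show m⁻¹ * (m * a * m⁻¹) * m⁻¹⁻¹ = a by group] at this

theorem cands_ord : ∀ g ∈ cands [(2, 11), (3, 3), (5, 2)] 1382400, ordN g = 60 ∨ ordN g = 360 := by
  have h : (cands [(2, 11), (3, 3), (5, 2)] 1382400).all (fun g => ordN g == 60 || ordN g == 360) = true := by
    decide +kernel
  rw [List.all_eq_true] at h
  intro g hg
  have h1 := h g hg
  rw [Bool.or_eq_true, beq_iff_eq, beq_iff_eq] at h1
  exact h1

namespace TD

variable {T : Type u} [Group T] [Finite T] (D : TD T)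

include D

/-- no elements of orders 3 and 5 commute -/
theorem not_three_five {t y : T} (ht : orderOf t = 3) (hy : orderOf y = 5) (h : t * y = y * t) : False := by
  have h1 := orderOf_dvd_cent h
  rw [ht, D.c5 y hy] at h1
  revert h1; norm_num

/-- **a subgroup of order divisible by 15 but not by 13 has no element of order 16** -/
theorem no16_A (tab : OrderTable.{u}) (known : Known.{u}) {M : Subgroup T} (h3 : 3 ∣ Nat.card M) (h5 : 5 ∣ Nat.card M)
    (h13 : ¬ 13 ∣ Nat.card M) : ∀ m ∈ M, orderOf m ≠ 16 := by
  intro x hxM hx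
  have : Fact (Nat.Prime 3) := ⟨Nat.prime_three⟩
  have : Fact (Nat.Prime 5) := ⟨Nat.prime_five⟩
  have : Fact (Nat.Prime 2) := ⟨Nat.prime_two⟩
  obtain ⟨t, ht⟩ := exists_prime_orderOf_dvd_card' (G := M) 3 h3
  obtain ⟨y, hy⟩ := exists_prime_orderOf_dvd_card' (G := M) 5 h5
  have ht' : orderOf (t : T) = 3 := by rw [Subgroup.orderOf_coe, ht]
  have hy' : orderOf (y : T) = 5 := by rw [Subgroup.orderOf_coe, hy]
  have hnt : Nontrivial M := by
    rw [← Finite.one_lt_card_iff_nontrivial]
    exact lt_of_lt_of_le (by norm_num) (Nat.le_of_dvd Nat.card_pos h3)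
  obtain ⟨N, hNn, hN1, hmin⟩ := Cfsg.Agent.Lib.SubnormalJoin.exists_minimal_normal M
  obtain ⟨T0, j, hT0N, hT0, hj, ⟨e⟩⟩ := Cfsg.Agent.Lib.MinNormal.exists_mulEquiv_pi N hN1 hmin
  have hcard : Nat.card N = Nat.card T0 ^ j := by
    rw [Nat.card_congr e.toEquiv, Nat.card_pi]
    simp
  have hNM : Nat.card N ∣ Nat.card M := Subgroup.card_subgroup_dvd_card N
  have hMd : Nat.card M ∣ 1382400 := by
    have h1 := D.card_dvd M
    have h2 : (17971200 : ℕ) = 13 * 1382400 := by norm_num
    rw [h2] at h1
    exact Nat.Coprime.dvd_of_dvd_mul_left ((Nat.Prime.coprime_iff_not_dvd (by norm_num)).2 h13).symm h1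
  have hT0d : Nat.card T0 ∣ Nat.card N := by
    rw [hcard]
    exact dvd_pow_self _ hj.ne'
  -- the normal subgroup in `T`
  set N' : Subgroup T := N.map M.subtype with hN'
  have hN'M : N' ≤ M := by
    rintro _ ⟨a, -, rfl⟩
    exact a.2
  have hN'n : ∀ m ∈ M, ∀ a ∈ N', m * a * m⁻¹ ∈ N' := by
    rintro m hm _ ⟨a, ha, rfl⟩
    exact ⟨⟨m, hm⟩ * a * ⟨m, hm⟩⁻¹, hNn.conj_mem a ha ⟨m, hm⟩, rfl⟩
  have hN'0 : N' ≠ ⊥ := by
    intro h
    apply hN1
    rw [hN', Subgroup.map_eq_bot_iff_of_injective _ M.subtype_injective] at h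
    exact h
  have hN'c : Nat.card N' = Nat.card N := Subgroup.card_map_of_injective M.subtype_injective
  by_cases hc : ∀ a b : T0, a * b = b * a
  · -- a p-group
    have hp : (Nat.card T0).Prime := by
      let _ : CommGroup T0 := { (inferInstance : Group T0) with mul_comm := hc }
      exact IsSimpleGroup.prime_card
    have hpg : Nat.card N' = Nat.card T0 ^ j := hN'c.trans hcard
    have hpT : Nat.card T0 ∣ 17971200 := by
      refine (hT0d.trans hNM).trans (hMd.trans ?_)
      norm_num
    have := Fact.mk hp
    have hP : IsPGroup (Nat.card T0) N' := IsPGroup.of_card hpg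
    rcases D.prime_cases hp hpT with h | h | h | h
    · rw [h] at hP
      exact D.no_local ht' hy' hP hN'0 (le_normalizer_of hN'n t.2) (le_normalizer_of hN'n y.2)
    · rw [h] at hP
      exact D.three_local hy' hP hN'0 fun a ha => hN'n _ y.2 a ha
    · rw [h] at hP
      have h25 := D.five_local ht' hP hN'0 fun a ha => hN'n _ t.2 a ha
      exact D.five_sixteen h25 hN'M hN'n ht' hy' t.2 y.2 hxM hx
    · apply h13
      rw [← h]
      exact hT0d.trans hNM
  · obtain ⟨g, hg, -, hcg⟩ := exists_good tab (known T0) hc (l := [(2, 11), (3, 3), (5, 2)]) (N := 1382400)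
      (by decide +kernel) ((hT0d.trans hNM).trans hMd)
    have hor := cands_ord g hg
    rw [← hcg] at hor
    have h3T : 3 ∣ Nat.card T0 := by rcases hor with h | h <;> rw [h] <;> norm_num
    have h5T : 5 ∣ Nat.card T0 := by rcases hor with h | h <;> rw [h] <;> norm_num
    obtain ⟨a, ha⟩ := exists_prime_orderOf_dvd_card' (G := T0) 3 h3T
    obtain ⟨b, hb⟩ := exists_prime_orderOf_dvd_card' (G := T0) 5 h5T
    have hj1 : j = 1 := by
      by_contra hj1
      have hj2 : 2 ≤ j := by omega
      let i0 : Fin j := ⟨0, by omega⟩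
      let i1 : Fin j := ⟨1, by omega⟩
      have hi : i0 ≠ i1 := by
        intro h
        have := congrArg Fin.val h
        revert this
        show (0 : ℕ) = 1 → False
        norm_num
      have h1 : Commute (Pi.mulSingle i0 a : Fin j → T0) (Pi.mulSingle i1 b) := 
        Pi.mulSingle_commute (f := fun _ : Fin j => (T0 : Type u)) hi a b
      let φ : (Fin j → T0) →* T := (M.subtype.comp N.subtype).comp e.symm.toMonoidHom
      have hφ : Function.Injective φ := (M.subtype_injective.comp N.subtype_injective).comp e.symm.injective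
      have h2 : orderOf (φ (Pi.mulSingle i0 a)) = 3 := by
        rw [orderOf_injective φ hφ, orderOf_single, ha]
      have h3' : orderOf (φ (Pi.mulSingle i1 b)) = 5 := by
        rw [orderOf_injective φ hφ, orderOf_single, hb]
      exact D.not_three_five h2 h3' (h1.map φ)
    subst hj1
    have e2 : N ≃* T0 := e.trans
      { toFun := fun f => f 0
        invFun := fun t _ => t
        left_inv := fun f => by funext i; rw [Subsingleton.elim i 0]
        right_inv := fun t => rfl
        map_mul' := fun f g => rfl }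
    have hnN : Nontrivial N := (Subgroup.nontrivial_iff_ne_bot N).2 hN1
    have hsN : IsSimpleGroup N := IsSimpleGroup.isSimpleGroup_of_surjective e2.symm.toMonoidHom e2.symm.surjective
    have hcN : Nat.card N = 60 ∨ Nat.card N = 360 := by
      rw [hcard, pow_one]
      exact hor
    have hx16 : (⟨x, hxM⟩ : M) ^ 16 = 1 := Subtype.ext (by
      show x ^ 16 = 1
      rw [← hx, pow_orderOf_eq_one])
    have hcomm := pow_eight_comm hsN hcN hx16
    have hs : orderOf (x ^ 8) = 2 := by
      rw [orderOf_pow_of_dvd (by norm_num) (by rw [hx]; norm_num), hx]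
    let a' : N := e2.symm a
    let b' : N := e2.symm b
    have ha' : orderOf ((a' : M) : T) = 3 := by
      rw [Subgroup.orderOf_coe, Subgroup.orderOf_coe, ← ha]
      exact e2.symm.orderOf_eq a
    have hb' : orderOf ((b' : M) : T) = 5 := by
      rw [Subgroup.orderOf_coe, Subgroup.orderOf_coe, ← hb]
      exact e2.symm.orderOf_eq b
    refine D.not_both hs ha' hb' ?_ ?_
    · exact congrArg Subtype.val (hcomm a' a'.2)
    · exact congrArg Subtype.val (hcomm b' b'.2)

end TD

end Cfsg.Agent.H631.TitsD
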