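import Cfsg.Agent.H631.TitsD.Local

/-!
# The Tits group: p-subgroups normalised by elements of orders 3 and 5; elements of order 16
-/

set_option autoImplicit false
set_option linter.unusedSectionVars false

universe u

namespace Cfsg.Agent.H631.TitsD

open Subgroup

section tools

variable {T : Type u} [Group T]

theorem orderOf_conj' (k t : T) : orderOf (k * t * k⁻¹) = orderOf t := by
  have := (MulAut.conj k).orderOf_eq t
  rwa [MulAut.conj_apply] at this

theorem mem_norm_zpowers [Finite T] {y g : T} (h : g * y * g⁻¹ ∈ zpowers y) :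
    g ∈ normalizer ((zpowers y : Subgroup T) : Set T) := by
  have hsub : (zpowers y).map (MulAut.conj g).toMonoidHom ≤ zpowers y := by
    rintro _ ⟨w, hw, rfl⟩
    obtain ⟨k, rfl⟩ := mem_zpowers_iff.1 hw
    rw [MonoidHom.map_zpow]
    exact zpow_mem h _
  have heq : (zpowers y).map (MulAut.conj g).toMonoidHom = zpowers y :=
    Subgroup.eq_of_le_of_card_ge hsub (by rw [Subgroup.card_map_of_injective (MulAut.conj g).injective])
  rw [Subgroup.mem_normalizer_iff]
  intro w
  constructor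
  · intro hw
    exact hsub ⟨w, hw, rfl⟩
  · intro hw
    have h5 : g * w * g⁻¹ ∈ (zpowers y).map (MulAut.conj g).toMonoidHom := by
      rw [heq]; exact hw
    obtain ⟨v, hv, hv'⟩ := h5
    have h6 : g * v * g⁻¹ = g * w * g⁻¹ := hv'
    have h7 : v = w := mul_left_cancel (mul_right_cancel h6)
    exact h7 ▸ hv

theorem isPGroup_two_of [Finite T] {Q : Subgroup T}
    (h : ∀ p : ℕ, p.Prime → p ≠ 2 → ∀ w ∈ Q, orderOf w = p → False) : IsPGroup 2 Q := by
  have : Fact (Nat.Prime 2) := ⟨Nat.prime_two⟩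
  rw [IsPGroup.iff_card]
  refine ⟨(Nat.card Q).primeFactorsList.length, ?_⟩
  apply Nat.eq_prime_pow_of_unique_prime_dvd Nat.card_pos.ne'
  intro p hp hpd
  by_contra hp2
  have := Fact.mk hp
  obtain ⟨x, hx⟩ := exists_prime_orderOf_dvd_card' p hpd
  exact h p hp hp2 x x.2 (by rw [Subgroup.orderOf_coe, hx])

/-- a free action -/
theorem card_dvd_of_free' {A β : Type*} [Group A] [Finite A] [MulAction A β] [Finite β]
    (h : ∀ b : β, MulAction.stabilizer A b = ⊥) : Nat.card A ∣ Nat.card β := by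
  have e := MulAction.selfEquivOrbitsQuotientProd h
  rw [Nat.card_congr e, Nat.card_prod]
  exact dvd_mul_left _ _

end tools

namespace TD

variable {T : Type u} [Group T] [Finite T] (D : TD T)

include D

theorem prime_cases {p : ℕ} (hp : p.Prime) (hd : p ∣ 17971200) : p = 2 ∨ p = 3 ∨ p = 5 ∨ p = 13 := by
  have h2 : (17971200 : ℕ) = 2 ^ 11 * (3 ^ 3 * (5 ^ 2 * 13)) := by norm_num
  rw [h2] at hd
  rcases (hp.dvd_mul).1 hd with h3 | h3
  · exact Or.inl ((Nat.prime_dvd_prime_iff_eq hp Nat.prime_two).1 (hp.dvd_of_dvd_pow h3))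
  rcases (hp.dvd_mul).1 h3 with h3 | h3
  · exact Or.inr (Or.inl ((Nat.prime_dvd_prime_iff_eq hp Nat.prime_three).1 (hp.dvd_of_dvd_pow h3)))
  rcases (hp.dvd_mul).1 h3 with h3 | h3
  · exact Or.inr (Or.inr (Or.inl ((Nat.prime_dvd_prime_iff_eq hp (by norm_num)).1 (hp.dvd_of_dvd_pow h3))))
  · exact Or.inr (Or.inr (Or.inr ((Nat.prime_dvd_prime_iff_eq hp (by norm_num)).1 h3)))

theorem card_dvd (M : Subgroup T) : Nat.card M ∣ 17971200 := by
  rw [← D.card]
  exact Subgroup.card_subgroup_dvd_card M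

/-- an element commuting with an element of order 8 is a 2-element -/
theorem not_comm_eight {y w : T} (hy : orderOf y = 8) {p : ℕ} (hp : p.Prime) (hp2 : p ≠ 2) (hw : orderOf w = p)
    (h : y * w = w * y) : False := by
  have h1 := orderOf_dvd_cent h
  rw [hy] at h1
  have hpT : p ∣ 17971200 := by
    rw [← D.card, ← hw]
    exact orderOf_dvd_natCard _
  rcases D.prime_cases hp hpT with rfl | rfl | rfl | rfl
  · exact hp2 rfl
  · rw [D.c3 w hw] at h1
    revert h1; norm_num
  · rw [D.c5 w hw] at h1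
    revert h1; norm_num
  · rw [D.c13 w hw] at h1
    revert h1; norm_num

/-- the normaliser of a cyclic subgroup of order 8 -/
theorem norm_eight {y : T} (hy : orderOf y = 8) : IsPGroup 2 (normalizer ((zpowers y : Subgroup T) : Set T)) := by
  refine isPGroup_two_of fun p hp hp2 w hw ho => ?_
  have h1 : w * y * w⁻¹ ∈ zpowers y := (Subgroup.mem_normalizer_iff.1 hw y).1 (mem_zpowers y)
  obtain ⟨k, hk⟩ : ∃ k : ℕ, y ^ k = w * y * w⁻¹ := (mem_powers_iff_mem_zpowers.2 h1)
  have h8 : y ^ 8 = 1 := by rw [← hy, pow_orderOf_eq_one]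
  have hodd : k % 2 = 1 := by
    by_contra hk2
    have h2 : (w * y * w⁻¹) ^ 4 = 1 := by
      rw [← hk, ← pow_mul]
      obtain ⟨j, hj⟩ : 2 ∣ k := Nat.dvd_of_mod_eq_zero (by omega)
      rw [hj, show 2 * j * 4 = 8 * j by ring, pow_mul, h8, one_pow]
    rw [conj_pow, conj_eq_one_iff] at h2
    have h3 := orderOf_dvd_of_pow_eq_one h2
    rw [hy] at h3
    revert h3; norm_num
  have h2 := conj_pow_pow hk.symm 2
  have hk2 : k ^ 2 % 8 = 1 := by
    have : k % 8 = 1 ∨ k % 8 = 3 ∨ k % 8 = 5 ∨ k % 8 = 7 := by omega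
    rcases this with h | h | h | h <;> rw [Nat.pow_mod, h]
  have h3 : y ^ k ^ 2 = y := by
    have h4 : k ^ 2 = 8 * (k ^ 2 / 8) + 1 := by omega
    rw [h4, pow_add, pow_mul, h8, one_pow, one_mul, pow_one]
  rw [h3] at h2
  have h4 : Commute (w ^ 2) y := by
    show w ^ 2 * y = y * w ^ 2
    calc w ^ 2 * y = (w ^ 2 * y * (w ^ 2)⁻¹) * w ^ 2 := by group
      _ = y * w ^ 2 := by rw [h2]
  obtain ⟨m, hm⟩ := hp.odd_of_ne_two hp2
  have h5 : w = (w ^ 2) ^ (m + 1) := by
    rw [← pow_mul, show 2 * (m + 1) = p + 1 by rw [hm]; ring, pow_add, ← ho, pow_orderOf_eq_one, one_mul, pow_one]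
  have h6 : Commute w y := by
    rw [h5]
    exact h4.pow_left _
  exact D.not_comm_eight hy hp hp2 ho h6.symm

/-- the square of an element of order 16 is not conjugate to its cube -/
theorem lab' {x : T} (hx : orderOf x = 16) (s : T) : s * x ^ 2 * s⁻¹ ≠ x ^ 6 := by
  intro h
  have hy : orderOf (x ^ 2) = 8 := by
    rw [orderOf_pow_of_dvd (by norm_num) (by rw [hx]; norm_num), hx]
  refine D.lb.lab _ (D.norm_eight hy) x ?_ hx s ?_ h
  · apply mem_norm_zpowers
    rw [show x * x ^ 2 * x⁻¹ = x ^ 2 by group]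
    exact mem_zpowers _
  · apply mem_norm_zpowers
    rw [h, show x ^ 6 = (x ^ 2) ^ 3 by rw [← pow_mul]]
    exact pow_mem (mem_zpowers _) _

/-- an involution does not commute with elements of orders 3 and 5 -/
theorem not_both {s t y : T} (hs : orderOf s = 2) (ht : orderOf t = 3) (hy : orderOf y = 5) (h1 : s * t = t * s)
    (h2 : s * y = y * s) : False := by
  obtain ⟨z, d, I⟩ := D.inv
  rcases I.cases _ hs with h3 | h3
  · obtain ⟨c, hc⟩ := isConj_iff.1 h3
    refine I.z3 (c * t * c⁻¹) ((orderOf_conj' c t).trans ht) ?_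
    rw [← hc]
    calc c * s * c⁻¹ * (c * t * c⁻¹) = c * (s * t) * c⁻¹ := by group
      _ = c * (t * s) * c⁻¹ := by rw [h1]
      _ = _ := by group
  · obtain ⟨c, hc⟩ := isConj_iff.1 h3
    refine I.d5 (c * y * c⁻¹) ((orderOf_conj' c y).trans hy) ?_
    rw [← hc]
    calc c * s * c⁻¹ * (c * y * c⁻¹) = c * (s * y) * c⁻¹ := by group
      _ = c * (y * s) * c⁻¹ := by rw [h2]
      _ = _ := by group

/-- the fixed points of `y` on a normalised subgroup -/
theorem card_fix {p : ℕ} (hp : p.Prime) {y : T} (hy : orderOf y = p) {N : Subgroup T}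
    (hN : ∀ e ∈ N, y * e * y⁻¹ ∈ N) :
    Nat.card N % p = Nat.card (N ⊓ centralizer ({y} : Set T) : Subgroup T) % p := by
  have h1 := conj_modEq (X := (N : Set T)) hp (g := y) (by rw [← hy, pow_orderOf_eq_one]) hN
  have e1 : Nat.card (N : Set T) = Nat.card N := rfl
  rw [e1] at h1
  have h3 : Nat.card {x : T // x ∈ (N : Set T) ∧ y * x = x * y} =
      Nat.card (N ⊓ centralizer ({y} : Set T) : Subgroup T) :=
    Nat.card_congr (Equiv.subtypeEquivRight fun x => by
      rw [Subgroup.mem_inf, mem_centralizer_singleton_iff, eq_comm (a := y * x)]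
      rfl)
  rw [h3] at h1
  exact h1

/-- no 3-group is normalised by an element of order 5 -/
theorem three_local {y : T} (hy : orderOf y = 5) {N : Subgroup T} (h3 : IsPGroup 3 N) (hN : N ≠ ⊥)
    (hyN : ∀ e ∈ N, y * e * y⁻¹ ∈ N) : False := by
  have : Fact (Nat.Prime 3) := ⟨Nat.prime_three⟩
  have h1 := D.card_fix Nat.prime_five hy hyN
  obtain ⟨k, hk⟩ := IsPGroup.iff_card.1 h3
  obtain ⟨j, hj⟩ := IsPGroup.iff_card.1 (h3.to_le (inf_le_left : N ⊓ centralizer ({y} : Set T) ≤ N))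
  have h2 : Nat.card (N ⊓ centralizer ({y} : Set T) : Subgroup T) ∣ 50 := by
    rw [← D.c5 y hy]
    exact Subgroup.card_dvd_of_le inf_le_right
  have hj0 : j = 0 := by
    by_contra hj0
    rw [hj] at h2
    have h4 : 3 ∣ 50 := (dvd_pow_self 3 hj0).trans h2
    revert h4; norm_num
  rw [hk, hj, hj0] at h1
  have hk0 : k ≠ 0 := by
    rintro rfl
    exact hN (Subgroup.card_eq_one.1 (by rw [hk, pow_zero]))
  have hk3 : k ≤ 3 := by
    by_contra hk3
    have h4 := D.card_dvd N
    rw [hk] at h4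
    have h5 : 3 ^ 4 ∣ 17971200 := (pow_dvd_pow 3 (by omega : 4 ≤ k)).trans h4
    revert h5; norm_num
  interval_cases k <;> revert h1 <;> norm_num at *

/-- a 5-group normalised by an element of order 3 -/
theorem five_local {t : T} (ht : orderOf t = 3) {N : Subgroup T} (h5 : IsPGroup 5 N) (hN : N ≠ ⊥)
    (htN : ∀ e ∈ N, t * e * t⁻¹ ∈ N) : Nat.card N = 25 := by
  have : Fact (Nat.Prime 5) := ⟨Nat.prime_five⟩
  have h1 := D.card_fix Nat.prime_three ht htN
  obtain ⟨k, hk⟩ := IsPGroup.iff_card.1 h5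
  obtain ⟨j, hj⟩ := IsPGroup.iff_card.1 (h5.to_le (inf_le_left : N ⊓ centralizer ({t} : Set T) ≤ N))
  have h2 : Nat.card (N ⊓ centralizer ({t} : Set T) : Subgroup T) ∣ 108 := by
    rw [← D.c3 t ht]
    exact Subgroup.card_dvd_of_le inf_le_right
  have hj0 : j = 0 := by
    by_contra hj0
    rw [hj] at h2
    have h4 : 5 ∣ 108 := (dvd_pow_self 5 hj0).trans h2
    revert h4; norm_num
  rw [hk, hj, hj0] at h1
  have hk0 : k ≠ 0 := by
    rintro rfl
    exact hN (Subgroup.card_eq_one.1 (by rw [hk, pow_zero]))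
  have hk3 : k ≤ 2 := by
    by_contra hk3
    have h4 := D.card_dvd N
    rw [hk] at h4
    have h5 : 5 ^ 3 ∣ 17971200 := (pow_dvd_pow 5 (by omega : 3 ≤ k)).trans h4
    revert h5; norm_num
  rw [hk]
  interval_cases k
  · exact absurd rfl hk0
  · exfalso; revert h1; norm_num
  · norm_num

end TD

end Cfsg.Agent.H631.TitsD
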