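import Cfsg.Agent.H631.TitsD.NonAb
import Cfsg.Agent.H631.TitsD.LThree

/-!
# The Tits group: proper subgroups of order divisible by 13 have no elements of order 16
-/

set_option autoImplicit false
set_option linter.unusedSectionVars false
set_option maxRecDepth 100000

universe u

namespace Cfsg.Agent.H631.TitsD

open Subgroup Cfsg.Agent.OrdDiv Cfsg.Agent.H257.El Cfsg.Agent.H180.ElS

variable {T : Type u} [Group T] [Finite T]

/-- the normaliser of a Sylow 13-subgroup -/
theorem norm_dvd (h : Cfsg.Lie.IsoTits T) (hs : IsSimpleGroup T) {R : Subgroup T} (h13R : 13 ∣ Nat.card R)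
    (hR : Nat.card R ≠ 13) : (Nat.card R / 13) % 13 ∣ 6 := by
  have hTc := NotCT.Orders.tits h
  have hRn : Nat.card R ∣ 17971200 := by
    rw [← hTc]
    exact Subgroup.card_subgroup_dvd_card R
  have hnoR : ∀ p : ℕ, p.Prime → 13 ≠ p → ∀ z : R, orderOf z ≠ 13 * p := fun p hp h13 z => by
    rw [← Subgroup.orderOf_coe]
    exact noOrd_tits h hs hp h13 z
  have h13 : Fact (Nat.Prime 13) := ⟨by norm_num⟩
  obtain ⟨x, hx⟩ := exists_prime_orderOf_dvd_card' (G := R) 13 h13R
  have hsq : ¬ 13 ^ 2 ∣ Nat.card R := fun h2 => by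
    have := h2.trans hRn
    revert this; norm_num
  have hcR := card_cent_of_noOrd (by norm_num) hsq hnoR hx
  have hcT : Nat.card (centralizer ({(x : T)} : Set T)) = 13 :=
    H547.SelfCent.tits h hs (H393.Iso.na_tits h) (by rw [Subgroup.orderOf_coe, hx])
  have h1 := (card_norm_mod (r := 13) (by norm_num) hsq hR hcR).1
  have h2 := (card_norm_mod (r := 13) (Q := T) (by norm_num) (by rw [hTc]; norm_num) (by rw [hTc]; norm_num) hcT).1
  rw [hTc] at h2
  have h3 : Nat.card (normalizer ((zpowers x : Subgroup R) : Set R)) ∣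
      Nat.card (normalizer ((zpowers (x : T) : Subgroup T) : Set T)) := by
    have hle : (normalizer ((zpowers x : Subgroup R) : Set R)).map R.subtype ≤
        normalizer ((zpowers (x : T) : Subgroup T) : Set T) := by
      rintro _ ⟨g, hg, rfl⟩
      apply mem_norm_zpowers
      have h4 := (mem_normalizer_iff.1 hg x).1 (mem_zpowers x)
      obtain ⟨k, hk⟩ := mem_zpowers_iff.1 h4
      exact mem_zpowers_iff.2 ⟨k, congrArg Subtype.val hk⟩
    have h4 := Subgroup.card_dvd_of_le hle
    rwa [← Nat.card_congr ((normalizer ((zpowers x : Subgroup R) : Set R)).equivMapOfInjective R.subtype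
      R.subtype_injective).toEquiv] at h4
  rw [h1, h2] at h3
  have h4 : 13 * (Nat.card R / 13 % 13) ∣ 13 * 6 := by
    refine h3.trans ?_
    norm_num
  exact Nat.dvd_of_mul_dvd_mul_left (by norm_num) h4

theorem surv13 : surv 17971200 [(2, 11), (3, 3), (5, 2), (13, 1)] 13 [] = [Grp.psl 3 3, Grp.psl 2 25, Grp.psu 3 4] := by
  decide +kernel

/-- **no elements of order 16** -/
theorem no16_B (tab : OrderTable.{u}) (known : Known.{u}) (h : Cfsg.Lie.IsoTits T) {M : Subgroup T} (hM : M ≠ ⊤)
    (h13M : 13 ∣ Nat.card M) : ∀ m ∈ M, orderOf m ≠ 16 := by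
  intro x0 hx0M hx0
  have D := td_of h
  have hTc := NotCT.Orders.tits h
  have hs : IsSimpleGroup T := simple_tits h
  have hMn : Nat.card M ∣ 17971200 := by
    rw [← hTc]
    exact Subgroup.card_subgroup_dvd_card M
  have hsq : ¬ 13 ^ 2 ∣ Nat.card M := fun h2 => by
    have := h2.trans hMn
    revert this; norm_num
  have hno : ∀ p : ℕ, p.Prime → 13 ≠ p → ∀ z : M, orderOf z ≠ 13 * p := fun p hp h13 z => by
    rw [← Subgroup.orderOf_coe]
    exact noOrd_tits h hs hp h13 z
  obtain ⟨O, hO, N, ht⟩ := H257.El.exists_top (r := 13) (by norm_num) h13M hsq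
  have hcore : ∀ s : ℕ, s.Prime → 13 ≠ s → okPow [(2, 11), (3, 3), (5, 2), (13, 1)] 13 s = true → ¬ s ∣ Nat.card O := by
    intro s hsp hs13 hok
    refine ht.not_dvd_core hsp hs13 (hno s hsp hs13) ?_
    intro b hb hd
    exact okPow_spec (l := [(2, 11), (3, 3), (5, 2), (13, 1)]) (n := 17971200) (by decide +kernel)
      hok hsp hb (hd.trans hMn)
  have h2O : ¬ 2 ∣ Nat.card O := hcore 2 Nat.prime_two (by norm_num) (by decide +kernel)
  have h5O : ¬ 5 ∣ Nat.card O := hcore 5 Nat.prime_five (by norm_num) (by decide +kernel)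
  set x : M := ⟨x0, hx0M⟩ with hx
  have hxo : orderOf x = 16 := by rw [hx, Subgroup.orderOf_mk, hx0]
  have hx16 : x ^ 16 = 1 := by rw [← hxo, pow_orderOf_eq_one]
  have hNn := ht.normal
  have hNs := ht.simple
  by_cases hna : ∀ a b : N, a * b = b * a
  · have hN13 := ht.card_of_comm hna
    have hcen := ht.centralizer_eq hna
    have : Fact (Nat.Prime 13) := ⟨by norm_num⟩
    have hcy : IsCyclic N := isCyclic_of_prime_card hN13
    have hcard : Nat.card (MulAut N) = 12 := by
      rw [Nat.card_congr (IsCyclic.mulAutMulEquiv N).toEquiv, hN13, Nat.card_eq_fintype_card, ZMod.card_units_eq_totient]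
      decide
    set xq : M ⧸ O := QuotientGroup.mk' O x with hxq
    have hq16 : xq ^ 16 = 1 := by rw [hxq, ← map_pow, hx16, map_one]
    have h1 : (MulAut.conjNormal xq : MulAut N) ^ 4 = 1 := by
      have h2 : (MulAut.conjNormal xq : MulAut N) ^ 16 = 1 := by rw [← map_pow, hq16, map_one]
      have hfin : Finite (MulAut N) := Nat.finite_of_card_ne_zero (by rw [hcard]; norm_num)
      have h3 : (MulAut.conjNormal xq : MulAut N) ^ 12 = 1 := by rw [← hcard, pow_card_eq_one']
      have h4 := Nat.dvd_gcd (orderOf_dvd_of_pow_eq_one h2) (orderOf_dvd_of_pow_eq_one h3)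
      exact orderOf_dvd_iff_pow_eq_one.1 h4
    have h2 : xq ^ 4 ∈ N := by
      rw [← hcen, mem_centralizer_iff]
      intro n hn
      have h3 : (MulAut.conjNormal (xq ^ 4) : MulAut N) ⟨n, hn⟩ = ⟨n, hn⟩ := by
        rw [map_pow, h1]; rfl
      have h4 : xq ^ 4 * n * (xq ^ 4)⁻¹ = n := by
        have := congrArg Subtype.val h3
        rwa [MulAut.conjNormal_apply] at this
      calc n * xq ^ 4 = (xq ^ 4 * n * (xq ^ 4)⁻¹) * xq ^ 4 := by rw [h4]
        _ = xq ^ 4 * n := by group
    have h3 : xq ^ 4 = 1 := by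
      have h4 : orderOf (xq ^ 4) ∣ 13 := by
        rw [← hN13]
        exact Subgroup.orderOf_dvd_natCard N h2
      have h5 : orderOf (xq ^ 4) ∣ 4 := by
        apply orderOf_dvd_of_pow_eq_one
        rw [← pow_mul, hq16]
      have h6 := Nat.dvd_gcd h4 h5
      exact orderOf_eq_one_iff.1 (Nat.dvd_one.1 h6)
    have h4 : x ^ 4 ∈ O := by
      rw [hxq, ← map_pow] at h3
      exact (QuotientGroup.eq_one_iff _).1 h3
    have h5 := Subgroup.orderOf_dvd_natCard O h4
    rw [orderOf_pow_of_dvd (by norm_num) (by rw [hxo]; norm_num), hxo] at h5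
    exact h2O ((by norm_num : 2 ∣ 16 / 4).trans h5)
  · have hNM : Nat.card N ∣ Nat.card M := by
      refine (Subgroup.card_subgroup_dvd_card N).trans ?_
      rw [← card_quot_mul O]
      exact dvd_mul_right _ _
    obtain ⟨g, hg, hgr, hgc⟩ := exists_good tab (known N) hna (l := [(2, 11), (3, 3), (5, 2), (13, 1)])
      (N := 17971200) (by decide +kernel) (hNM.trans hMn)
    have hgs : g ∈ surv 17971200 [(2, 11), (3, 3), (5, 2), (13, 1)] 13 [] := by
      refine List.mem_filter.2 ⟨hg, ?_⟩
      unfold okG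
      rw [Bool.and_eq_true, Bool.and_eq_true, List.all_eq_true]
      refine ⟨⟨?_, ?_⟩, fun t ht => absurd ht (List.not_mem_nil)⟩
      · rw [← hgc, Nat.mod_eq_zero_of_dvd ht.dvd]; rfl
      · rw [← hgc]
        have g1 : Nat.card N ≤ Nat.card M := Nat.le_of_dvd Nat.card_pos hNM
        have g2 : Nat.card M < 17971200 := by
          refine lt_of_le_of_ne (Nat.le_of_dvd (by norm_num) hMn) fun h => hM ?_
          exact Subgroup.eq_top_of_card_eq M (h.trans hTc.symm)
        have g3 : Nat.card N ≠ 17971200 := by omega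
        simpa using g3
    rw [surv13, List.mem_cons, List.mem_cons, List.mem_singleton] at hgs
    have hO1 : O = ⊥ := by
      refine core_eq_bot h hs ht ?_ h5O
      rw [hgc]
      rcases hgs with rfl | rfl | rfl <;> decide +kernel
    have hMc : Nat.card M = Nat.card N * N.index := by
      have h0 : Nat.card O = 1 := by rw [hO1, Subgroup.card_bot]
      rw [← card_quot_mul O, h0, mul_one, ← Subgroup.card_mul_index N]
    rcases hgs with rfl | rfl | rfl
    · -- `L₃(3)`
      have hN : Nat.card N = 5616 := by rw [hgc]; decide +kernel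
      have hi := ht.index_mul_dvd hno (by rw [hN]; norm_num)
      rw [hN] at hi hMc
      have hn := norm_dvd h hs h13M (by rw [hMc]; omega)
      have hi2 : N.index ∣ 2 := by
        have hi' : N.index ∣ 12 := (dvd_mul_right _ _).trans hi
        have hle : N.index ≤ 12 := Nat.le_of_dvd (by norm_num) hi'
        rw [hMc] at hn
        generalize N.index = i at *
        interval_cases i <;> revert hn hi <;> norm_num
      set xq : M ⧸ O := QuotientGroup.mk' O x with hxq
      have hx2 : xq ^ 2 ∈ N := by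
        obtain ⟨c, hc⟩ := hi2
        rw [hc, pow_mul]
        exact pow_mem (Subgroup.pow_index_mem N xq) c
      have hi1 : Function.Injective (QuotientGroup.mk' O) := by
        rw [← MonoidHom.ker_eq_bot_iff, QuotientGroup.ker_mk', hO1]
      have hyo : orderOf (⟨xq ^ 2, hx2⟩ : N) = 8 := by
        rw [Subgroup.orderOf_mk, hxq, ← map_pow, orderOf_injective _ hi1,
          orderOf_pow_of_dvd (by norm_num) (by rw [hxo]; norm_num), hxo]
      obtain ⟨F, hF, hF', hc, ⟨e⟩⟩ := hgr
      obtain ⟨a, b, ha, hb, hab⟩ := exists_psl33 (F := F) hc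
      obtain ⟨s, hs'⟩ := exists_cube_conj (X := N) (m := 351) (by norm_num) (by rw [hN]) (a := e.symm a) (b := e.symm b)
        (by rw [e.symm.orderOf_eq, ha]) (by rw [← map_mul, hb, map_one])
        (by rw [← map_inv, ← map_mul, ← map_mul, hab, map_pow]) hyo
      obtain ⟨f, hf, hfm⟩ := exists_hom N hO1
      have hfy : f ⟨xq ^ 2, hx2⟩ = x ^ 2 := by
        apply hi1
        rw [hfm, map_pow]
      have h4 := congrArg f hs'
      rw [map_mul, map_mul, map_inv, map_pow, hfy] at h4
      have h5 : ((f s : M) : T) * x0 ^ 2 * ((f s : M) : T)⁻¹ = x0 ^ 6 := by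
        have h6 := congrArg Subtype.val h4
        have h7 : (((x ^ 2) ^ 3 : M) : T) = x0 ^ 6 := by
          rw [← pow_mul]
          rfl
        rw [← h7, ← h6]
        rfl
      exact D.lab' hx0 _ h5
    · -- `L₂(25)`
      have hN : Nat.card N = 7800 := by rw [hgc]; decide +kernel
      have hodd := index_odd h hs ht hO1 hN
      have h16 := Subgroup.orderOf_dvd_natCard M hx0M
      rw [hx0, hMc, hN] at h16
      obtain ⟨c, hc⟩ := h16
      exact hodd ⟨c - 487 * N.index, by omega⟩
    · exact no_u34 h hO1 hgr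

end Cfsg.Agent.H631.TitsD
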